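import Groth.Agent.Vancyc.H327.EulerAbs
import Groth.Agent.Vancyc.H120.VBundle2

/-!
# The Euler class of a vector bundle (S4009)

* `lci_zero`: the zero section of `V(G)`, `G` locally free of rank `m` over any base;
* `eul x hG h hn κ ∈ H^{2m}(Z, ℤ/n)`, `eul_pull`, `eul_section`, `eul_iso`.
-/

set_option autoImplicit false
universe u
open CategoryTheory CategoryTheory.Limits AlgebraicGeometry Opposite Topology

namespace Groth.Agent.Vancyc.H327

open Groth.Agent.Sga4h.H13 (Aff origin origin_str)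
open Groth.Agent.CohqB.AlgSym Groth.Agent.Vancyc.H691.Cone Groth.Agent.Vancyc.H120

noncomputable section

variable {k : Type u} [Field k] {m n : ℕ} {Z : Scheme.{u}} {G : Z.Modules}

section

variable (hG : Coh.IsQCoh G)

/-- The complement of the zero section. -/
def zO : (V hG).Opens where
  carrier := (Set.range (zero hG))ᶜ
  is_open' := (zero hG).isClosedEmbedding.isClosed_range.isOpen_compl

theorem coe_zO : (zO hG : Set (V hG)) = (Set.range (zero hG))ᶜ := rfl

theorem isLocallyNoetherian_V [IsLocallyNoetherian Z] (h : FlatMod.IsFinLocFreeOfRank m G) :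
    IsLocallyNoetherian (V hG) := by
  have := VBundle.smoothOfRelativeDimension_toX hG h
  have h1 : Smooth (toX hG) := SmoothOfRelativeDimension.smooth m (toX hG)
  exact LocallyOfFiniteType.isLocallyNoetherian (toX hG)

theorem compactSpace_V [CompactSpace Z] : CompactSpace (V hG) := by
  have := isAffineHom_toX hG
  exact QuasiCompact.compactSpace_of_compactSpace (toX hG)

/-- The zero section of a vector bundle over any base. -/
theorem lci_zero [IsLocallyNoetherian Z] (x : Z ⟶ Spec (CommRingCat.of k))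
    (h : FlatMod.IsFinLocFreeOfRank m G) (hn : (n : k) ≠ 0) :
    LCI (toX hG ≫ x) (zero hG) (zO hG) m n := by
  have h0 := isLocallyNoetherian_V hG h
  have h1 : SmoothOfRelativeDimension (0 + m) (toX hG) := by
    rw [zero_add]
    exact VBundle.smoothOfRelativeDimension_toX hG h
  have h2 : SmoothOfRelativeDimension 0 (zero hG ≫ toX hG) := by
    rw [zero_toX]
    infer_instance
  exact LCI.of_pair (toX hG ≫ x) (toX hG) x rfl (zero hG) 0 m hn (coe_zO hG)

end

variable [IsLocallyNoetherian Z] [CompactSpace Z]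

/-- The cycle class of the zero section. -/
def zcyc (x : Z ⟶ Spec (CommRingCat.of k)) (hG : Coh.IsQCoh G)
    (h : FlatMod.IsFinLocFreeOfRank m G) (hn : (n : k) ≠ 0) :
    HS (ZMod n) (O0 k m) (2 * m) →+ HC (ZMod n) (V hG) (2 * m) :=
  have := isLocallyNoetherian_V hG h
  have := compactSpace_V hG
  cyc (lci_zero hG x h hn)

/-- **The Euler class.** -/
def eul (x : Z ⟶ Spec (CommRingCat.of k)) (hG : Coh.IsQCoh G)
    (h : FlatMod.IsFinLocFreeOfRank m G) (hn : (n : k) ≠ 0) :
    HS (ZMod n) (O0 k m) (2 * m) →+ HC (ZMod n) Z (2 * m) :=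
  have := isLocallyNoetherian_V hG h
  have := compactSpace_V hG
  sint (lci_zero hG x h hn)

theorem eul_eq (x : Z ⟶ Spec (CommRingCat.of k)) (hG : Coh.IsQCoh G)
    (h : FlatMod.IsFinLocFreeOfRank m G) (hn : (n : k) ≠ 0)
    (κ : HS (ZMod n) (O0 k m) (2 * m)) :
    eul x hG h hn κ = hpull (ZMod n) (zero hG) (2 * m) (zcyc x hG h hn κ) := rfl

/-- The cycle class of the zero section by any other description. -/
theorem zcyc_eq_cyc (x : Z ⟶ Spec (CommRingCat.of k)) (hG : Coh.IsQCoh G)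
    (h : FlatMod.IsFinLocFreeOfRank m G) (hn : (n : k) ≠ 0)
    (κ : HS (ZMod n) (O0 k m) (2 * m)) [IsLocallyNoetherian (V hG)] [CompactSpace (V hG)]
    {v : V hG ⟶ Spec (CommRingCat.of k)} {O : (V hG).Opens} (L : LCI v (zero hG) O m n)
    (hv : toX hG ≫ x = v) : zcyc x hG h hn κ = cyc L κ := by
  subst hv
  exact cyc_congr (lci_zero hG x h hn) L rfl κ

theorem eul_eq_sint (x : Z ⟶ Spec (CommRingCat.of k)) (hG : Coh.IsQCoh G)
    (h : FlatMod.IsFinLocFreeOfRank m G) (hn : (n : k) ≠ 0)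
    (κ : HS (ZMod n) (O0 k m) (2 * m)) [IsLocallyNoetherian (V hG)] [CompactSpace (V hG)]
    {v : V hG ⟶ Spec (CommRingCat.of k)} {O : (V hG).Opens} (L : LCI v (zero hG) O m n)
    (hv : toX hG ≫ x = v) : eul x hG h hn κ = sint L κ := by
  rw [eul_eq, zcyc_eq_cyc x hG h hn κ L hv, sint_apply]

/-- **Sections.** All sections of `V(G)` pull the class of the zero section back to `e(G)`. -/
theorem eul_section (x : Z ⟶ Spec (CommRingCat.of k)) (hG : Coh.IsQCoh G)
    (h : FlatMod.IsFinLocFreeOfRank m G) (hn : (n : k) ≠ 0)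
    (κ : HS (ZMod n) (O0 k m) (2 * m)) (hac : Sga4B.AcycMor.Acyc n (toX hG)) (σ : Z ⟶ V hG)
    (hσ : σ ≫ toX hG = 𝟙 Z) :
    hpull (ZMod n) σ (2 * m) (zcyc x hG h hn κ) = eul x hG h hn κ := by
  have := isLocallyNoetherian_V hG h
  have := compactSpace_V hG
  exact sint_section (lci_zero hG x h hn) κ (toX hG) hac (zero_toX hG) σ hσ

/-- **Pull-back of sections.** If the section `σ` of `V(G)` meets the zero section in `W`
(`W = Z ×_{σ, V(G), 0} Z`), and `W ⟶ Z` has codimension `m` in the sense of `LCI`, then `e(G)` is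
the cycle class of `W`. -/
theorem cyc_zeroScheme (x : Z ⟶ Spec (CommRingCat.of k)) (hG : Coh.IsQCoh G)
    (h : FlatMod.IsFinLocFreeOfRank m G) (hn : (n : k) ≠ 0)
    (κ : HS (ZMod n) (O0 k m) (2 * m)) (hac : Sga4B.AcycMor.Acyc n (toX hG)) (σ : Z ⟶ V hG)
    (hσ : σ ≫ toX hG = 𝟙 Z) {W : Scheme.{u}} {j j' : W ⟶ Z} [IsClosedImmersion j]
    (w : IsPullback j j' σ (zero hG)) {O : Z.Opens} (L : LCI x j O m n) :
    cyc L κ = eul x hG h hn κ := by
  have := isLocallyNoetherian_V hG h
  have := compactSpace_V hG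
  rw [← eul_section x hG h hn κ hac σ hσ]
  symm
  exact cyc_pull (lci_zero hG x h hn) κ L (by rw [← Category.assoc, hσ, Category.id_comp]) w

/-- **Pull-backs.** -/
theorem eul_pull (x : Z ⟶ Spec (CommRingCat.of k)) (hG : Coh.IsQCoh G)
    (h : FlatMod.IsFinLocFreeOfRank m G) (hn : (n : k) ≠ 0)
    (κ : HS (ZMod n) (O0 k m) (2 * m)) {Z' : Scheme.{u}} [IsLocallyNoetherian Z'] [CompactSpace Z']
    {x' : Z' ⟶ Spec (CommRingCat.of k)} {G' : Z'.Modules} (hG' : Coh.IsQCoh G')
    (h' : FlatMod.IsFinLocFreeOfRank m G') (g : Z' ⟶ Z) (hg : g ≫ x = x') (b : V hG' ⟶ V hG)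
    (hb : b ≫ toX hG = toX hG' ≫ g) (w : IsPullback (zero hG') g b (zero hG)) :
    hpull (ZMod n) g (2 * m) (eul x hG h hn κ) = eul x' hG' h' hn κ := by
  have := isLocallyNoetherian_V hG h
  have := compactSpace_V hG
  have := isLocallyNoetherian_V hG' h'
  have := compactSpace_V hG'
  refine sint_pull (lci_zero hG x h hn) κ (lci_zero hG' x' h' hn) ?_ w
  rw [← Category.assoc, hb, Category.assoc, hg]

end

end Groth.Agent.Vancyc.H327
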