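import Groth.Agent.Sga4h.H13.FamStmt
import Mathlib.AlgebraicGeometry.IdealSheaf.Functorial
import Mathlib.AlgebraicGeometry.ResidueField
import Mathlib.RingTheory.MvPolynomial.Ideal

/-!
# The origin of affine space and ideals generated by functions (S4009)

* `O0 k m`: the complement of the origin of `𝔸^m_k`; `coe_O0`;
* `toAff t v : T ⟶ 𝔸^m` for `t : T ⟶ Spec k` and functions `v`;
* `ideal_comap_top`: the pull-back of an ideal sheaf for affine schemes; `ideal_comap_of_le`;
* `ideal_comap_origin`: `φ⁻¹ (ideal of the origin)` is generated by the coordinates of `φ`.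
-/

set_option autoImplicit false
universe u
open CategoryTheory CategoryTheory.Limits AlgebraicGeometry Opposite

namespace Groth.Agent.Vancyc.H327

open Groth.Agent.Sga4h.H13 (Aff origin origin_str)

noncomputable section

variable {k : Type u} [Field k] {m : ℕ}

/-- The complement of the origin in `𝔸^m_k`. -/
def O0 (k : Type u) [Field k] (m : ℕ) : (Aff k m).Opens :=
  ⨆ i, (Aff k m).basicOpen (AffineSpace.coord (Spec (CommRingCat.of k)) i)

theorem mem_O0_iff (x : Aff k m) :
    x ∈ O0 k m ↔ ∃ i, x ∈ (Aff k m).basicOpen (AffineSpace.coord (Spec (CommRingCat.of k)) i) := by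
  simp [O0]

/-- The morphism to `𝔸^m_k` given by functions. -/
abbrev toAff {T : Scheme.{u}} (t : T ⟶ Spec (CommRingCat.of k))
    (v : ULift.{u} (Fin m) → Γ(T, ⊤)) : T ⟶ Aff k m := AffineSpace.homOfVector t v

/-- The coordinates of a morphism to `𝔸^m`. -/
abbrev vec {T : Scheme.{u}} (f : T ⟶ Aff k m) (i : ULift.{u} (Fin m)) : Γ(T, ⊤) :=
  Groth.Agent.Sga4h.H13.vec f i

theorem vec_def {T : Scheme.{u}} (f : T ⟶ Aff k m) (i : ULift.{u} (Fin m)) :
    vec f i = f.appTop (AffineSpace.coord (Spec (CommRingCat.of k)) i) := rfl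

theorem vec_toAff {T : Scheme.{u}} (t : T ⟶ Spec (CommRingCat.of k))
    (v : ULift.{u} (Fin m) → Γ(T, ⊤)) : vec (toAff t v) = v := by
  funext i
  exact AffineSpace.homOfVector_appTop_coord t v i

theorem vec_comp {T T' : Scheme.{u}} (g : T' ⟶ T) (f : T ⟶ Aff k m) (i : ULift.{u} (Fin m)) :
    vec (g ≫ f) i = g.appTop (vec f i) := by
  rw [vec_def, vec_def, Scheme.Hom.comp_appTop]
  rfl

theorem toAff_vec {T : Scheme.{u}} (t : T ⟶ Spec (CommRingCat.of k)) (f : T ⟶ Aff k m)
    (hf : f ≫ Aff.str k m = t) : toAff t (vec f) = f := by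
  refine AffineSpace.hom_ext ?_ fun i => ?_
  · exact (AffineSpace.homOfVector_over _ _).trans hf.symm
  · exact AffineSpace.homOfVector_appTop_coord t _ i

theorem comp_toAff {T T' : Scheme.{u}} (g : T' ⟶ T) (t : T ⟶ Spec (CommRingCat.of k))
    (v : ULift.{u} (Fin m) → Γ(T, ⊤)) :
    g ≫ toAff t v = toAff (g ≫ t) (fun i => g.appTop (v i)) :=
  AffineSpace.comp_homOfVector v g t

theorem hom_ext_vec {T : Scheme.{u}} {f g : T ⟶ Aff k m} (h : f ≫ Aff.str k m = g ≫ Aff.str k m)
    (h' : ∀ i, vec f i = vec g i) : f = g := AffineSpace.hom_ext h h'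

theorem preimage_O0 {T : Scheme.{u}} (f : T ⟶ Aff k m) :
    f ⁻¹ᵁ O0 k m = ⨆ i, T.basicOpen (vec f i) := by
  rw [O0, Scheme.Hom.preimage_iSup]
  exact iSup_congr fun i => Scheme.preimage_basicOpen_top f _

theorem mem_preimage_O0_iff {T : Scheme.{u}} (f : T ⟶ Aff k m) (x : T) :
    x ∈ f ⁻¹ᵁ O0 k m ↔ ∃ i, x ∈ T.basicOpen (vec f i) := by
  rw [preimage_O0]
  simp

theorem vec_origin (i : ULift.{u} (Fin m)) : vec (origin k m) i = 0 :=
  AffineSpace.homOfVector_appTop_coord _ _ i

theorem coe_O0 : (O0 k m : Set (Aff k m)) = (Set.range (origin k m))ᶜ := by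
  ext x
  rw [Set.mem_compl_iff, SetLike.mem_coe, ← not_iff_not, not_not]
  constructor
  · intro hx
    let ξ := (Aff k m).fromSpecResidueField x
    have h1 : ξ = (ξ ≫ Aff.str k m) ≫ origin k m := by
      refine hom_ext_vec ?_ fun i => ?_
      · rw [Category.assoc, Category.assoc, origin_str, Category.comp_id]
      · rw [vec_comp, vec_origin, map_zero]
        have h2 : (Spec ((Aff k m).residueField x)).basicOpen (vec ξ i) = ⊥ := by
          rw [eq_bot_iff]
          intro s hs
          have h3 : s ∈ ξ ⁻¹ᵁ (Aff k m).basicOpen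
              (AffineSpace.coord (Spec (CommRingCat.of k)) i) := by
            rw [Scheme.preimage_basicOpen_top]
            exact hs
          have h4 : ξ s = x := Scheme.fromSpecResidueField_apply _ _
          apply hx
          rw [mem_O0_iff]
          exact ⟨i, h4 ▸ h3⟩
        exact (basicOpen_eq_bot_iff _).1 h2
    have h3 : x = ξ (IsLocalRing.closedPoint _) := (Scheme.fromSpecResidueField_apply _ _).symm
    rw [h3, h1]
    exact ⟨_, rfl⟩
  · rintro ⟨s, rfl⟩ hx
    have h1 : s ∈ origin k m ⁻¹ᵁ O0 k m := hx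
    rw [mem_preimage_O0_iff] at h1
    obtain ⟨i, hi⟩ := h1
    rw [vec_origin, Scheme.basicOpen_zero] at hi
    exact hi

/-! ### Ideals -/

section Ideals

variable {X Y : Scheme.{u}}

/-- The pull-back of an ideal sheaf, affine case. -/
theorem ideal_comap_top [IsAffine X] [IsAffine Y] (I : Y.IdealSheafData) (f : X ⟶ Y) :
    (I.comap f).ideal ⟨⊤, isAffineOpen_top X⟩ =
      (I.ideal ⟨⊤, isAffineOpen_top Y⟩).map f.appTop.hom := by
  have key : ∀ J : Ideal Γ(X, ⊤), (I.comap f).ideal ⟨⊤, isAffineOpen_top X⟩ ≤ J ↔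
      (I.ideal ⟨⊤, isAffineOpen_top Y⟩).map f.appTop.hom ≤ J := by
    intro J
    let K : X.IdealSheafData := Scheme.IdealSheafData.ofIdealTop J
    have hK : K.ideal ⟨⊤, isAffineOpen_top X⟩ = J := by simp [K]
    have h1 : (I.comap f).ideal ⟨⊤, isAffineOpen_top X⟩ ≤ J ↔ I.comap f ≤ K := by
      rw [← hK]
      exact ⟨Scheme.IdealSheafData.le_of_isAffine, fun h => h _⟩
    have h2 : I ≤ K.map f ↔ I.ideal ⟨⊤, isAffineOpen_top Y⟩ ≤
        (K.map f).ideal ⟨⊤, isAffineOpen_top Y⟩ :=
      ⟨fun h => h _, Scheme.IdealSheafData.le_of_isAffine⟩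
    have h3 : (K.map f).ideal ⟨⊤, isAffineOpen_top Y⟩ = J.comap f.appTop.hom := by
      rw [Scheme.IdealSheafData.ideal_map_of_isAffineHom]
      exact congrArg (Ideal.comap f.appTop.hom) hK
    rw [h1, ← Scheme.IdealSheafData.le_map_iff_comap_le, h2, h3, Ideal.map_le_iff_le_comap]
  exact le_antisymm ((key _).2 le_rfl) ((key _).1 le_rfl)

/-- The canonical ring homomorphism `k[X_i] ⟶ Γ(𝔸^m)`. -/
def evA (k : Type u) [Field k] (m : ℕ) :
    MvPolynomial (ULift.{u} (Fin m)) k →+* Γ(Aff k m, ⊤) :=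
  MvPolynomial.eval₂Hom ((Scheme.ΓSpecIso (CommRingCat.of k)).inv ≫ (Aff.str k m).appTop).hom
    (AffineSpace.coord (Spec (CommRingCat.of k)))

theorem evA_X (i : ULift.{u} (Fin m)) :
    evA k m (MvPolynomial.X i) = AffineSpace.coord (Spec (CommRingCat.of k)) i :=
  MvPolynomial.eval₂_X _ _ _

theorem evA_bijective (k : Type u) [Field k] (m : ℕ) : Function.Bijective (evA k m) := by
  have h1 : IsIso ((AffineSpace.SpecIso (ULift.{u} (Fin m)) (CommRingCat.of k)).hom.appTop) :=
    inferInstanceAs (IsIso ((AffineSpace.SpecIso (ULift.{u} (Fin m))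
      (CommRingCat.of k)).hom.app ⊤))
  rw [AffineSpace.SpecIso_hom_appTop] at h1
  have h2 := @IsIso.of_isIso_comp_left _ _ _ _ _ _ _ _ h1
  exact (ConcreteCategory.isIso_iff_bijective _).1 h2

theorem ker_origin_ideal (k : Type u) [Field k] (m : ℕ) :
    (origin k m).ker.ideal ⟨⊤, isAffineOpen_top _⟩ =
      Ideal.span (Set.range (AffineSpace.coord (Spec (CommRingCat.of k)) :
        ULift.{u} (Fin m) → Γ(Aff k m, ⊤))) := by
  rw [Scheme.ker_of_isAffine]
  have h0 : (Scheme.IdealSheafData.ofIdealTop (RingHom.ker (origin k m).appTop.hom)).ideal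
      ⟨⊤, isAffineOpen_top _⟩ = RingHom.ker (origin k m).appTop.hom := by simp
  rw [h0]
  apply le_antisymm
  · intro p hp
    obtain ⟨q, rfl⟩ := (evA_bijective k m).2 p
    have h1 : (origin k m).appTop.hom.comp (evA k m) =
        ((Scheme.ΓSpecIso (CommRingCat.of k)).inv.hom).comp MvPolynomial.constantCoeff := by
      apply MvPolynomial.ringHom_ext
      · intro c
        have h2 : ((Scheme.ΓSpecIso (CommRingCat.of k)).inv ≫ (Aff.str k m).appTop) ≫
            (origin k m).appTop = (Scheme.ΓSpecIso (CommRingCat.of k)).inv := by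
          rw [Category.assoc, ← Scheme.Hom.comp_appTop, origin_str]
          simp
        rw [RingHom.comp_apply, RingHom.comp_apply, MvPolynomial.constantCoeff_C]
        have h3 : evA k m (MvPolynomial.C c) =
            ((Scheme.ΓSpecIso (CommRingCat.of k)).inv ≫ (Aff.str k m).appTop).hom c :=
          MvPolynomial.eval₂_C _ _ _
        rw [h3]
        exact congrArg (fun g : CommRingCat.of k ⟶ _ => g.hom c) h2
      · intro i
        rw [RingHom.comp_apply, RingHom.comp_apply, MvPolynomial.constantCoeff_X, map_zero, evA_X]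
        exact vec_origin i
    have h4 : (Scheme.ΓSpecIso (CommRingCat.of k)).inv.hom (MvPolynomial.constantCoeff q) = 0 := by
      rw [← RingHom.comp_apply, ← h1]
      exact hp
    have h5 : MvPolynomial.constantCoeff q = 0 := by
      have h6 := congrArg (Scheme.ΓSpecIso (CommRingCat.of k)).hom.hom h4
      rw [map_zero] at h6
      rw [← h6]
      exact (congrArg (fun g : CommRingCat.of k ⟶ _ => g.hom (MvPolynomial.constantCoeff q))
        (Scheme.ΓSpecIso (CommRingCat.of k)).inv_hom_id).symm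
    have h7 : q ∈ Ideal.span (MvPolynomial.X '' (Set.univ : Set (ULift.{u} (Fin m))) :
        Set (MvPolynomial (ULift.{u} (Fin m)) k)) := by
      rw [MvPolynomial.mem_ideal_span_X_image]
      intro s hs
      by_contra h
      push Not at h
      have h8 : s = 0 := Finsupp.ext fun i => h i (Set.mem_univ i)
      rw [h8, MvPolynomial.mem_support_iff] at hs
      exact hs h5
    have h9 := Ideal.mem_map_of_mem (evA k m) h7
    rw [Ideal.map_span] at h9
    refine Ideal.span_mono ?_ h9
    rintro _ ⟨_, ⟨i, -, rfl⟩, rfl⟩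
    exact ⟨i, (evA_X i).symm⟩
  · rw [Ideal.span_le]
    rintro _ ⟨i, rfl⟩
    exact vec_origin i

/-- `φ⁻¹ (ideal of the origin)` is generated by the coordinates of `φ`, affine case. -/
theorem ideal_comap_origin_top [IsAffine X] (φ : X ⟶ Aff k m) :
    ((origin k m).ker.comap φ).ideal ⟨⊤, isAffineOpen_top X⟩ = Ideal.span (Set.range (vec φ)) := by
  rw [ideal_comap_top, ker_origin_ideal, Ideal.map_span, ← Set.range_comp]
  rfl

end Ideals

end

end Groth.Agent.Vancyc.H327
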