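import Groth.Agent.Vancyc.H327.Supp2

/-!
# Étale cohomology with supports III (S4009): localisation, Mayer-Vietoris, excision

* `extPQ j hO : Ext (j_! j⁻¹ ZQ O) M →+ HS M O' q` bijective for `j : U ⟶ X` an open immersion,
  `O' = j⁻¹ O`; `extPQ_c`, `pull_extPQ`;
* Mayer-Vietoris in `HS`: `HS.exists_mv`, `HS.eq_zero_mv`;
* excision for an open subscheme: `HS.pull_bijective_of_open`.
-/

set_option autoImplicit false
set_option backward.isDefEq.respectTransparency false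
set_option backward.isDefEq.respectTransparency.types false
universe u
open CategoryTheory CategoryTheory.Limits AlgebraicGeometry Opposite Abelian
open scoped Groth.Agent.Etcore.EtInst
open Groth.Agent.Etcore.EtInst

namespace Groth.Agent.Vancyc.H327

open Groth.Agent.Etcore.MVShriek Groth.Agent.Etcore.MVbc Groth.Agent.Etcore.PullCoh
open Groth.Agent.Sga4B.ExtCmp Groth.Agent.EtpbcB.HRel

noncomputable section

variable {U V W X Y : Scheme.{u}} (M : Type) [AddCommGroup M]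

section Loc

variable (j : U ⟶ X) [IsOpenImmersion j] {O : X.Opens} {O' : U.Opens} (h : O' = j ⁻¹ᵁ O)

/-- The equivalence `Ext (j_! j⁻¹ ZQ O) M ≃ HS M (j⁻¹ O)`. -/
def extPQ (q : ℕ) : Ext.{u + 1} (P j (ZQ O)) (EtCoh.const X M) q →+ HS M O' q :=
  ((Ext.mk₀ (EtCore.pullConst j M).hom).postcomp (ZQ O') (add_zero q)).comp
    (cmp (EtCoh.pull j) (bQ j h.le ≫ (adj j).unit.app ((EtCoh.pull j).obj (ZQ O)))
      (EtCoh.const X M) q)

theorem extPQ_apply (q : ℕ) (e : Ext.{u + 1} (P j (ZQ O)) (EtCoh.const X M) q) :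
    extPQ M j h q e =
      (cmp (EtCoh.pull j) (bQ j h.le ≫ (adj j).unit.app ((EtCoh.pull j).obj (ZQ O)))
        (EtCoh.const X M) q e).comp (Ext.mk₀ (EtCore.pullConst j M).hom) (add_zero q) := rfl

theorem extPQ_bijective (q : ℕ) : Function.Bijective (extPQ M j h q) := by
  have i1 := isIso_bQ j h
  have h1 : ⇑(cmp (EtCoh.pull j) (bQ j h.le ≫ (adj j).unit.app ((EtCoh.pull j).obj (ZQ O)))
        (EtCoh.const X M) q) =
      (fun x => (Ext.mk₀ (bQ j h.le)).comp x (zero_add q)) ∘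
        ⇑(Etcore.ExtAdj.extAdj (adj j) ((EtCoh.pull j).obj (ZQ O)) (EtCoh.const X M) q) := by
    funext e
    rw [Function.comp_apply, Etcore.ExtAdj.extAdj_apply, cmp_apply,
      ← Ext.comp_assoc_of_second_deg_zero, Ext.mk₀_comp_mk₀]
  refine (postcomp_bijective (EtCore.pullConst j M).hom q).comp ?_
  rw [h1]
  exact (Etcore.MVbcAbs.precomp_bijective (bQ j h.le) _ q).comp
    (Etcore.ExtAdj.extAdj (adj j) ((EtCoh.pull j).obj (ZQ O)) (EtCoh.const X M) q).bijective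

/-- Restriction in terms of `extPQ`. -/
theorem extPQ_c (q : ℕ) (x : HS M O q) :
    extPQ M j h q ((Ext.mk₀ (c j (ZQ O))).comp x (zero_add q)) = HS.pull M j h.le q x := by
  rw [extPQ_apply, HS.pull_apply, cmp_apply, cmp_apply, Ext.mapExactFunctor_comp,
    Ext.mapExactFunctor_mk₀, ← Ext.comp_assoc_of_second_deg_zero, Ext.mk₀_comp_mk₀,
    Category.assoc, Etcore.MVEt.unit_pull_c]
  have h1 : bQ j h.le ≫ 𝟙 ((EtCoh.pull j).obj (ZQ O)) = bQ j h.le := Category.comp_id _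
  exact congrArg (fun k => ((Ext.mk₀ k).comp (Ext.mapExactFunctor (EtCoh.pull j) x)
    (zero_add q)).comp (Ext.mk₀ (EtCore.pullConst j M).hom) (add_zero q)) h1

end Loc

section Two

variable (a : W ⟶ U) (j : U ⟶ X) (w : W ⟶ X) (hw : a ≫ j = w) [IsOpenImmersion j]
  [IsOpenImmersion w] (hjw : Set.range w ⊆ Set.range j)
  {O : X.Opens} {OU : U.Opens} (hU : OU = j ⁻¹ᵁ O) {OW : W.Opens} (hW : OW = w ⁻¹ᵁ O)
  (ha : OW ≤ a ⁻¹ᵁ OU)

theorem keyQ : (bQ w hW.le ≫ (adj w).unit.app ((EtCoh.pull w).obj (ZQ O))) ≫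
      (EtCoh.pull w).map (ca j w hjw (ZQ O)) =
    bQ a ha ≫ (EtCoh.pull a).map (bQ j hU.le ≫ (adj j).unit.app ((EtCoh.pull j).obj (ZQ O))) ≫
      (theta a j w hw).hom.app (P j (ZQ O)) := by
  have hm := mono_c j (ZQ O)
  have hm' : Mono ((EtCoh.pull w).map (c j (ZQ O))) := inferInstance
  rw [← cancel_mono ((EtCoh.pull w).map (c j (ZQ O)))]
  simp only [Category.assoc]
  have h4 : (theta a j w hw).hom.app (P j (ZQ O)) ≫ (EtCoh.pull w).map (c j (ZQ O)) =
      (EtCoh.pull a).map ((EtCoh.pull j).map (c j (ZQ O))) ≫ (theta a j w hw).hom.app (ZQ O) :=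
    ((theta a j w hw).hom.naturality (c j (ZQ O))).symm
  rw [← Functor.map_comp, ca_c, Etcore.MVEt.unit_pull_c, h4, ← Functor.map_comp_assoc,
    Category.assoc, Etcore.MVEt.unit_pull_c]
  have h1 : bQ j hU.le ≫ 𝟙 ((EtCoh.pull j).obj (ZQ O)) = bQ j hU.le := Category.comp_id _
  refine (Category.comp_id _).trans (Eq.trans ?_ (congrArg (fun k => bQ a ha ≫
    (EtCoh.pull a).map k ≫ (theta a j w hw).hom.app (ZQ O)) h1).symm)
  exact (bQ_comp a j w hw ha hU.le hW.le).symm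

include hw in
theorem pull_extPQ (q : ℕ) (e : Ext.{u + 1} (P j (ZQ O)) (EtCoh.const X M) q) :
    HS.pull M a ha q (extPQ M j hU q e) =
      extPQ M w hW q ((Ext.mk₀ (ca j w hjw (ZQ O))).comp e (zero_add q)) := by
  have h := Groth.Agent.Etcore.MVViaAbs.via (EtCoh.pull j) (EtCoh.pull a) (EtCoh.pull w)
    (theta a j w hw).hom
    (bQ j hU.le ≫ (adj j).unit.app ((EtCoh.pull j).obj (ZQ O)))
    (bQ a ha)
    (bQ w hW.le ≫ (adj w).unit.app ((EtCoh.pull w).obj (ZQ O)))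
    (ca j w hjw (ZQ O)) (keyQ a j w hw hjw hU hW ha) e
  have h2 : (EtCoh.pull a).map (EtCore.pullConst j M).hom ≫ (EtCore.pullConst a M).hom =
      (theta a j w hw).hom.app (EtCoh.const X M) ≫ (EtCore.pullConst w M).hom :=
    pullConst_comp a j w hw M
  rw [HS.pull_apply, extPQ_apply, extPQ_apply, cmp_mk₀, Ext.comp_assoc_of_third_deg_zero,
    Ext.mk₀_comp_mk₀, h2, ← Ext.mk₀_comp_mk₀, ← Ext.comp_assoc_of_third_deg_zero]
  exact congrArg (fun t => Ext.comp t (Ext.mk₀ (EtCore.pullConst w M).hom) (add_zero q)) h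

end Two

section MV

variable (j : U ⟶ X) [IsOpenImmersion j] (k : V ⟶ X) [IsOpenImmersion k]
  (w : W ⟶ X) [IsOpenImmersion w] (a : W ⟶ U) (b : W ⟶ V) (haj : a ≫ j = w) (hbk : b ≫ k = w)
  (hjk : Set.range w = Set.range j ∩ Set.range k)
  (hcov : Set.range j ∪ Set.range k = Set.univ)
  {O : X.Opens} {OU : U.Opens} (hU : OU = j ⁻¹ᵁ O) {OV : V.Opens} (hV : OV = k ⁻¹ᵁ O)
  {OW : W.Opens} (hW : OW = w ⁻¹ᵁ O) (ha : OW ≤ a ⁻¹ᵁ OU) (hb : OW ≤ b ⁻¹ᵁ OV)

include hjk hcov haj hbk hW ha hb in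
/-- The Mayer-Vietoris sequence of cohomology with supports. -/
theorem HS.mv : ∃ δ : ∀ n : ℕ, HS M OW n →+ HS M O (n + 1),
      (AddMonoidHom.prod (HS.pull M j hU.le 0) (HS.pull M k hV.le 0)).ker = ⊥ ∧
      (∀ n : ℕ, (AddMonoidHom.prod (HS.pull M j hU.le (n + 1))
        (HS.pull M k hV.le (n + 1))).ker = (δ n).range) ∧
      (∀ n : ℕ, ((HS.pull M a ha n).comp (AddMonoidHom.fst _ _) -
          (HS.pull M b hb n).comp (AddMonoidHom.snd _ _)).ker =
        (AddMonoidHom.prod (HS.pull M j hU.le n) (HS.pull M k hV.le n)).range) ∧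
      (∀ n : ℕ, (δ n).ker = ((HS.pull M a ha n).comp (AddMonoidHom.fst _ _) -
          (HS.pull M b hb n).comp (AddMonoidHom.snd _ _)).range) :=
  Groth.Agent.Etcore.MVExtAbs.exists_δ (F := EtCoh.const X M)
    (ca j w (hj_of j k w hjk) (ZQ O)) (ca k w (hk_of j k w hjk) (ZQ O)) (c j (ZQ O)) (c k (ZQ O))
    (zero_mv j k w hjk (ZQ O)) (shortExact_mv j k w hjk (ZQ O) hcov)
    (Hw := fun n => HS M OW n) (Hj := fun n => HS M OU n) (Hk := fun n => HS M OV n)
    (fun n => AddEquiv.ofBijective (extPQ M w hW n) (extPQ_bijective M w hW n))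
    (fun n => AddEquiv.ofBijective (extPQ M j hU n) (extPQ_bijective M j hU n))
    (fun n => AddEquiv.ofBijective (extPQ M k hV n) (extPQ_bijective M k hV n))
    (fun n => HS.pull M j hU.le n) (fun n => HS.pull M k hV.le n)
    (fun n e => (extPQ_c M j hU n e).symm) (fun n e => (extPQ_c M k hV n e).symm)
    (fun n => HS.pull M a ha n) (fun n => HS.pull M b hb n)
    (fun n e => pull_extPQ M a j w haj (hj_of j k w hjk) hU hW ha n e)
    (fun n e => pull_extPQ M b k w hbk (hk_of j k w hjk) hV hW hb n e)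

include hjk hcov haj hbk hW ha hb in
/-- Gluing of classes with supports over two open subschemes. -/
theorem HS.exists_mv (n : ℕ) (x : HS M OU n) (y : HS M OV n)
    (hxy : HS.pull M a ha n x = HS.pull M b hb n y) :
    ∃ z : HS M O n, HS.pull M j hU.le n z = x ∧ HS.pull M k hV.le n z = y := by
  obtain ⟨δ, -, -, h, -⟩ := HS.mv M j k w a b haj hbk hjk hcov hU hV hW ha hb
  have h1 : (x, y) ∈ ((HS.pull M a ha n).comp (AddMonoidHom.fst _ _) -
          (HS.pull M b hb n).comp (AddMonoidHom.snd _ _)).ker := by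
    rw [AddMonoidHom.mem_ker]
    simp only [AddMonoidHom.sub_apply, AddMonoidHom.comp_apply, AddMonoidHom.coe_fst,
      AddMonoidHom.coe_snd, hxy, sub_self]
  rw [h n] at h1
  obtain ⟨z, hz⟩ := h1
  rw [AddMonoidHom.prod_apply, Prod.mk.injEq] at hz
  exact ⟨z, hz.1, hz.2⟩

include hjk hcov haj hbk hW ha hb in
/-- A class with support vanishing on two open subschemes vanishes if the group in the previous
degree over the intersection vanishes. -/
theorem HS.eq_zero_mv (n : ℕ) (h0 : Subsingleton (HS M OW n)) (z : HS M O (n + 1))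
    (h1 : HS.pull M j hU.le (n + 1) z = 0) (h2 : HS.pull M k hV.le (n + 1) z = 0) : z = 0 := by
  obtain ⟨δ, -, h, -, -⟩ := HS.mv M j k w a b haj hbk hjk hcov hU hV hW ha hb
  have h3 : z ∈ (AddMonoidHom.prod (HS.pull M j hU.le (n + 1))
        (HS.pull M k hV.le (n + 1))).ker := by
    rw [AddMonoidHom.mem_ker, AddMonoidHom.prod_apply, h1, h2]
    rfl
  rw [h n] at h3
  obtain ⟨t, ht⟩ := h3
  rw [← ht, Subsingleton.elim t 0, map_zero]

include hjk hcov haj hbk hW ha hb in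
theorem HS.eq_zero_mv_zero (z : HS M O 0)
    (h1 : HS.pull M j hU.le 0 z = 0) (h2 : HS.pull M k hV.le 0 z = 0) : z = 0 := by
  obtain ⟨δ, h, -, -, -⟩ := HS.mv M j k w a b haj hbk hjk hcov hU hV hW ha hb
  have h3 : z ∈ (AddMonoidHom.prod (HS.pull M j hU.le 0) (HS.pull M k hV.le 0)).ker := by
    rw [AddMonoidHom.mem_ker, AddMonoidHom.prod_apply, h1, h2]
    rfl
  rw [h] at h3
  exact h3

end MV

section Excision

variable {Ω : Type u} [Field Ω] [IsSepClosed Ω]

/-- The stalks of `ZQ O` on `O` are zero. -/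
theorem isZero_stalk_ZQ (O : X.Opens) (ξ : Spec (CommRingCat.of Ω) ⟶ X) (h : ξ default ∈ O) :
    IsZero ((EtCoh.stalk ξ).obj (ZQ O)) := by
  have h1 := isIso_stalk_c O.ι (EtCoh.const X ℤ) ξ (by rw [Scheme.Opens.range_ι]; exact h)
  have h2 : Epi ((EtCoh.stalk ξ).map (ZQπ O)) := inferInstance
  rw [IsZero.iff_id_eq_zero, ← cancel_epi ((EtCoh.stalk ξ).map (ZQπ O)),
    ← cancel_epi ((EtCoh.stalk ξ).map (c O.ι (EtCoh.const X ℤ))), comp_zero, comp_zero,
    Category.comp_id, ← Functor.map_comp, c_ZQπ, Functor.map_zero]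

theorem isIso_c_ZQ (j : U ⟶ X) [IsOpenImmersion j] (O : X.Opens)
    (h : ∀ x : X, x ∉ O → x ∈ Set.range j) : IsIso (c j (ZQ O)) := by
  rw [Groth.Agent.Etcore.Stalks.isIso_iff_stalks]
  intro Ω _ _ ξ
  by_cases hx : ξ default ∈ Set.range j
  · exact isIso_stalk_c j _ ξ hx
  · exact (isZero_stalk_P j _ ξ hx).isIso (isZero_stalk_ZQ O ξ (by
      by_contra h'
      exact hx (h _ h'))) _

/-- Excision for an open subscheme. -/
theorem HS.pull_bijective_of_open (j : U ⟶ X) [IsOpenImmersion j] {O : X.Opens} {O' : U.Opens}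
    (hO : O' = j ⁻¹ᵁ O) (h : ∀ x : X, x ∉ O → x ∈ Set.range j) (q : ℕ) :
    Function.Bijective (HS.pull M j hO.le q) := by
  have i1 := isIso_c_ZQ j O h
  have h1 : ⇑(HS.pull M j hO.le q) = ⇑(extPQ M j hO q) ∘
      (fun x => (Ext.mk₀ (c j (ZQ O))).comp x (zero_add q)) :=
    funext fun x => (extPQ_c M j hO q x).symm
  rw [h1]
  exact (extPQ_bijective M j hO q).comp (Etcore.MVbcAbs.precomp_bijective (c j (ZQ O)) _ q)

/-- No class with support in the empty set. -/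
theorem HS.subsingleton_of_top (O : X.Opens) (h : ∀ x : X, x ∈ O) (q : ℕ) :
    Subsingleton (HS M O q) := by
  have h1 : IsZero (ZQ O) := by
    have h2 : IsIso (0 : ZQ O ⟶ ZQ O) := by
      rw [Groth.Agent.Etcore.Stalks.isIso_iff_stalks]
      intro Ω _ _ ξ
      exact (isZero_stalk_ZQ O ξ (h _)).isIso (isZero_stalk_ZQ O ξ (h _)) _
    rw [IsZero.iff_id_eq_zero, ← IsIso.hom_inv_id (0 : ZQ O ⟶ ZQ O), zero_comp]
  refine ⟨fun a b => ?_⟩
  have h3 : ∀ a : HS M O q, a = 0 := fun a => by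
    rw [← Ext.mk₀_id_comp a, (IsZero.iff_id_eq_zero _).1 h1, Ext.mk₀_zero, Ext.zero_comp]
  rw [h3 a, h3 b]

end Excision

end

end Groth.Agent.Vancyc.H327
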