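import Groth.Agent.Vancyc.H327.FC

/-!
# Fundamental classes II (S4009)

`x : X ⟶ Spec k`, `i : Z ⟶ X` a closed immersion, locally given by `m` equations, `κ ∈ H^{2m}_0(𝔸^m, ℤ/n)`.

* `LCI x i O m n`: hypotheses on `i`; `IsCh x i j φ`: `φ : T ⟶ 𝔸^m` is a system of
  equations of `i` over `j : T ⟶ X`;
* `fc h : H^{2m}_0(𝔸^m, ℤ/n) →+ H^{2m}_Z(X, ℤ/n)`, `fc_chart`, `fc_unique`, `fc_main`, `fc_pull`;
* `LCI.of_open`, `LCI.gen_of_span`.
-/

set_option autoImplicit false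
universe u
open CategoryTheory CategoryTheory.Limits AlgebraicGeometry Opposite Topology

namespace Groth.Agent.Vancyc.H327

open Groth.Agent.Sga4h.H13 (Aff origin origin_str)

noncomputable section

variable {k : Type u} [Field k] {m n : ℕ}

variable {X Z : Scheme.{u}} (x : X ⟶ Spec (CommRingCat.of k)) (i : Z ⟶ X)

/-! ### Charts -/

/-- `φ : T ⟶ 𝔸^m` is a system of equations of `i` over `j : T ⟶ X`. -/
structure IsCh {T : Scheme.{u}} (j : T ⟶ X) (φ : T ⟶ Aff k m) : Prop where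
  hstr : φ ≫ Aff.str k m = j ≫ x
  ideal : (origin k m).ker.comap φ = i.ker.comap j

variable {x i}

theorem IsCh.comp {T T' : Scheme.{u}} {j : T ⟶ X} {φ : T ⟶ Aff k m} (h : IsCh x i j φ)
    (g : T' ⟶ T) : IsCh x i (g ≫ j) (g ≫ φ) where
  hstr := by rw [Category.assoc, Category.assoc, h.hstr]
  ideal := by rw [Scheme.IdealSheafData.comap_comp, Scheme.IdealSheafData.comap_comp, h.ideal]

theorem IsCh.comp' {T T' : Scheme.{u}} {j : T ⟶ X} {φ : T ⟶ Aff k m} (h : IsCh x i j φ)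
    (g : T' ⟶ T) {j' : T' ⟶ X} (hj : g ≫ j = j') : IsCh x i j' (g ≫ φ) :=
  hj ▸ h.comp g

theorem IsCh.preimage [IsClosedImmersion i] {T : Scheme.{u}} {j : T ⟶ X} {φ : T ⟶ Aff k m}
    (h : IsCh x i j φ) {O : X.Opens} (hO : (O : Set X) = (Set.range i)ᶜ) :
    φ ⁻¹ᵁ O0 k m = j ⁻¹ᵁ O := by
  have h1 := congrArg (fun I : T.IdealSheafData => (I.support : Set T)) h.ideal
  simp only [Scheme.IdealSheafData.support_comap] at h1
  have h3 : (O : Set X) = (i.ker.support : Set X)ᶜ := by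
    rw [hO, Scheme.Hom.support_ker, i.isClosedEmbedding.isClosed_range.closure_eq]
  ext y
  have h2 : φ y ∈ (O0 k m : Set (Aff k m)) ↔ j y ∈ (O : Set X) := by
    rw [coe_O0_eq_support, h3, Set.mem_compl_iff, Set.mem_compl_iff]
    exact not_congr (Set.ext_iff.1 h1 y)
  exact h2

variable (x i)

/-- The hypotheses for the fundamental class of a closed immersion. -/
structure LCI (O : X.Opens) (m n : ℕ) : Prop where
  compl : (O : Set X) = (Set.range i)ᶜ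
  van : ∀ {U : Scheme.{u}} (j : U ⟶ X) [IsOpenImmersion j] (q : ℕ), q < 2 * m →
    Subsingleton (HS (ZMod n) (j ⁻¹ᵁ O) q)
  codim : ∀ y : X, y ∉ O → (m : WithBot ℕ∞) ≤ ringKrullDim (X.presheaf.stalk y)
  gen : ∀ y : X, y ∉ O → ∃ (U : X.Opens) (φ : (U : Scheme.{u}) ⟶ Aff k m), y ∈ U ∧
    φ ≫ Aff.str k m = U.ι ≫ x ∧ (origin k m).ker.comap φ = i.ker.comap U.ι
  hn : (n : k) ≠ 0

variable {x i} {O : X.Opens}

theorem LCI.pur (h : LCI x i O m n) : Pur O m n := ⟨h.van, h.codim⟩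

theorem LCI.of_pur (h : Pur O m n) (hO : (O : Set X) = (Set.range i)ᶜ) (hn : (n : k) ≠ 0)
    (gen : ∀ y : X, y ∉ O → ∃ (U : X.Opens) (φ : (U : Scheme.{u}) ⟶ Aff k m), y ∈ U ∧
    φ ≫ Aff.str k m = U.ι ≫ x ∧ (origin k m).ker.comap φ = i.ker.comap U.ι) : LCI x i O m n :=
  ⟨hO, h.van, h.codim, gen, hn⟩

theorem LCI.exists_ch (h : LCI x i O m n) (y : X) (hy : y ∉ O) :
    ∃ (U : X.Opens) (φ : (U : Scheme.{u}) ⟶ Aff k m), y ∈ U ∧ IsCh x i U.ι φ := by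
  obtain ⟨U, φ, h1, h2, h3⟩ := h.gen y hy
  exact ⟨U, φ, h1, h2, h3⟩

variable [IsLocallyNoetherian X] [CompactSpace X] [IsClosedImmersion i]

theorem compactSpace_opens (U : X.Opens) : CompactSpace (U : Scheme.{u}) :=
  have hN : IsNoetherian X := {}
  isCompact_iff_compactSpace.1 (TopologicalSpace.NoetherianSpace.isCompact (U : Set X))

theorem exists_fc (h : LCI x i O m n) (κ : HS (ZMod n) (O0 k m) (2 * m)) :
    ∃ c : HS (ZMod n) O (2 * m), ∀ (U : X.Opens) (φ : (U : Scheme.{u}) ⟶ Aff k m)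
      (hφ : IsCh x i U.ι φ), HS.pull (ZMod n) U.ι (O' := U.ι ⁻¹ᵁ O) le_rfl (2 * m) c =
        HS.pull (ZMod n) φ (hφ.preimage h.compl).ge (2 * m) κ := by
  obtain ⟨c, hc⟩ := HS.exists_glue (ZMod n) (O := O) (q := 2 * m)
    (fun U q' hq' => h.pur.van' U q' hq')
    (I := {p : Σ U : X.Opens, ((U : Scheme.{u}) ⟶ Aff k m) // IsCh x i p.1.ι p.2})
    (fun p => p.1.1) (fun p => HS.pull (ZMod n) p.1.2 (p.2.preimage h.compl).ge (2 * m) κ)
    (fun y hy => by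
      obtain ⟨U, φ, h1, h2⟩ := h.exists_ch y hy
      exact ⟨⟨⟨U, φ⟩, h2⟩, h1⟩)
    (fun a b y hy ha hb => by
      refine ⟨a.1.1 ⊓ b.1.1, inf_le_left, inf_le_right, ⟨ha, hb⟩, ?_⟩
      have hc := compactSpace_opens (a.1.1 ⊓ b.1.1)
      have ea : X.homOfLE (inf_le_left : a.1.1 ⊓ b.1.1 ≤ a.1.1) ≫ a.1.1.ι =
        (a.1.1 ⊓ b.1.1).ι := Scheme.homOfLE_ι _ _
      have eb : X.homOfLE (inf_le_right : a.1.1 ⊓ b.1.1 ≤ b.1.1) ≫ b.1.1.ι =
        (a.1.1 ⊓ b.1.1).ι := Scheme.homOfLE_ι _ _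
      have ca := a.2.comp' _ ea
      have cb := b.2.comp' _ eb
      have h1 := pull_eq_of_comap_eq ((a.1.1 ⊓ b.1.1).ι ≫ x) _ _ ca.hstr cb.hstr
        (ca.ideal.trans cb.ideal.symm) (ca.preimage h.compl).ge (cb.preimage h.compl).ge
        (ca.preimage h.compl).le (h.pur.of_open (a.1.1 ⊓ b.1.1).ι) h.hn κ
      have h2 := HS.pull_comp (ZMod n) (X.homOfLE (inf_le_left : a.1.1 ⊓ b.1.1 ≤ a.1.1)) a.1.2 _
        rfl (O'' := (a.1.1 ⊓ b.1.1).ι ⁻¹ᵁ O) (by rw [← Scheme.Hom.comp_preimage, ea])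
        (a.2.preimage h.compl).ge (ca.preimage h.compl).ge (2 * m) κ
      have h3 := HS.pull_comp (ZMod n) (X.homOfLE (inf_le_right : a.1.1 ⊓ b.1.1 ≤ b.1.1)) b.1.2 _
        rfl (O'' := (a.1.1 ⊓ b.1.1).ι ⁻¹ᵁ O) (by rw [← Scheme.Hom.comp_preimage, eb])
        (b.2.preimage h.compl).ge (cb.preimage h.compl).ge (2 * m) κ
      exact (h2.trans h1).trans h3.symm)
  exact ⟨c, fun U φ hφ => hc ⟨⟨U, φ⟩, hφ⟩⟩

/-- Two classes which agree on charts near the support agree. -/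
theorem LCI.ext (h : LCI x i O m n) (c c' : HS (ZMod n) O (2 * m))
    (hc : ∀ (U : X.Opens) (φ : (U : Scheme.{u}) ⟶ Aff k m) (_ : IsCh x i U.ι φ),
      HS.pull (ZMod n) U.ι (O' := U.ι ⁻¹ᵁ O) le_rfl (2 * m) c =
        HS.pull (ZMod n) U.ι (O' := U.ι ⁻¹ᵁ O) le_rfl (2 * m) c') : c = c' := by
  refine HS.eq_of_local (ZMod n) (fun U q' hq' => h.pur.van' U q' hq') c c' fun y hy => ?_
  obtain ⟨U, φ, h1, h2⟩ := h.exists_ch y hy
  exact ⟨U, h1, hc U φ h2⟩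

/-- **The fundamental class.** -/
def fc (h : LCI x i O m n) : HS (ZMod n) (O0 k m) (2 * m) →+ HS (ZMod n) O (2 * m) :=
  AddMonoidHom.mk' (fun κ => Classical.choose (exists_fc h κ)) fun κ κ' => by
    refine h.ext _ _ fun U φ hφ => ?_
    rw [map_add, Classical.choose_spec (exists_fc h (κ + κ')) U φ hφ,
      Classical.choose_spec (exists_fc h κ) U φ hφ, Classical.choose_spec (exists_fc h κ') U φ hφ,
      map_add]

theorem fc_chart' (h : LCI x i O m n) (κ : HS (ZMod n) (O0 k m) (2 * m)) (U : X.Opens)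
    (φ : (U : Scheme.{u}) ⟶ Aff k m) (hφ : IsCh x i U.ι φ) :
    HS.pull (ZMod n) U.ι (O' := U.ι ⁻¹ᵁ O) le_rfl (2 * m) (fc h κ) =
      HS.pull (ZMod n) φ (hφ.preimage h.compl).ge (2 * m) κ :=
  Classical.choose_spec (exists_fc h κ) U φ hφ

/-- The pull-back of the fundamental class by any morphism `g : T ⟶ X`, in terms of equations over
`g`. -/
theorem fc_main (h : LCI x i O m n) (κ : HS (ZMod n) (O0 k m) (2 * m)) {T : Scheme.{u}}
    [IsLocallyNoetherian T] [CompactSpace T] (g : T ⟶ X) (φ : T ⟶ Aff k m)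
    (hφ : IsCh x i g φ) {O' : T.Opens} (hO' : O' ≤ g ⁻¹ᵁ O) (hO'' : g ⁻¹ᵁ O ≤ O')
    (hφ' : O' ≤ φ ⁻¹ᵁ O0 k m) (hP : Pur O' m n) :
    HS.pull (ZMod n) g hO' (2 * m) (fc h κ) = HS.pull (ZMod n) φ hφ' (2 * m) κ := by
  obtain rfl : O' = g ⁻¹ᵁ O := le_antisymm hO' hO''
  refine hP.eq_of_local _ _ fun y hy => ?_
  obtain ⟨U, ψ, hyU, hψ⟩ := h.exists_ch (g y) hy
  let V := g ⁻¹ᵁ U
  let g' : (V : Scheme.{u}) ⟶ (U : Scheme.{u}) := g ∣_ U
  have hg' : g' ≫ U.ι = V.ι ≫ g := morphismRestrict_ι g U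
  have hV : CompactSpace (V : Scheme.{u}) := compactSpace_opens V
  refine ⟨V, V.ι, inferInstance, ?_, ?_⟩
  · rw [Scheme.Opens.range_ι]
    exact hyU
  -- two charts on `V`
  have c1 : IsCh x i (V.ι ≫ g) (V.ι ≫ φ) := hφ.comp V.ι
  have c2 : IsCh x i (V.ι ≫ g) (g' ≫ ψ) := hψ.comp' g' hg'
  have h1 := pull_eq_of_comap_eq ((V.ι ≫ g) ≫ x) _ _ c2.hstr c1.hstr
    (c2.ideal.trans c1.ideal.symm) (c2.preimage h.compl).ge (c1.preimage h.compl).ge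
    (c2.preimage h.compl).le (hP.of_open V.ι) h.hn κ
  have h2 : V.ι ⁻¹ᵁ (g ⁻¹ᵁ O) ≤ g' ⁻¹ᵁ (U.ι ⁻¹ᵁ O) := by
    rw [← Scheme.Hom.comp_preimage, ← Scheme.Hom.comp_preimage, hg']
  have e1 := HS.pull_comp (ZMod n) V.ι g _ rfl (le_refl (V.ι ⁻¹ᵁ (g ⁻¹ᵁ O))) (le_refl (g ⁻¹ᵁ O))
    (le_refl (V.ι ⁻¹ᵁ (g ⁻¹ᵁ O))) (2 * m) (fc h κ)
  have e2 := HS.pull_comp (ZMod n) g' U.ι _ hg' h2 (le_refl (U.ι ⁻¹ᵁ O))
    (le_refl (V.ι ⁻¹ᵁ (g ⁻¹ᵁ O))) (2 * m) (fc h κ)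
  have e3 := HS.pull_comp (ZMod n) g' ψ _ rfl h2 (hψ.preimage h.compl).ge
    (c2.preimage h.compl).ge (2 * m) κ
  have e4 := HS.pull_comp (ZMod n) V.ι φ _ rfl (le_refl (V.ι ⁻¹ᵁ (g ⁻¹ᵁ O))) hφ'
    (c1.preimage h.compl).ge (2 * m) κ
  rw [fc_chart' h κ U ψ hψ] at e2
  exact e1.trans (e2.symm.trans (e3.trans (h1.trans e4.symm)))

/-- The fundamental class in terms of equations on an open subscheme. -/
theorem fc_chart (h : LCI x i O m n) (κ : HS (ZMod n) (O0 k m) (2 * m)) {T : Scheme.{u}}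
    [CompactSpace T] (j : T ⟶ X) [IsOpenImmersion j] (φ : T ⟶ Aff k m) (hφ : IsCh x i j φ)
    {O' : T.Opens} (hO' : O' = j ⁻¹ᵁ O) (hφ' : O' ≤ φ ⁻¹ᵁ O0 k m) :
    HS.pull (ZMod n) j hO'.le (2 * m) (fc h κ) = HS.pull (ZMod n) φ hφ' (2 * m) κ :=
  have : IsLocallyNoetherian T := isLocallyNoetherian_of_isOpenImmersion j
  fc_main h κ j φ hφ hO'.le hO'.ge hφ' (h.pur.of_open' j hO')

/-- Characterisation of the fundamental class: it is enough to have one chart near each point. -/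
theorem fc_unique (h : LCI x i O m n) (κ : HS (ZMod n) (O0 k m) (2 * m))
    (c : HS (ZMod n) O (2 * m)) (hc : ∀ y : X, y ∉ O → ∃ (U : Scheme.{u}) (j : U ⟶ X)
      (_ : IsOpenImmersion j) (_ : CompactSpace U) (φ : U ⟶ Aff k m) (hφ : IsCh x i j φ),
      y ∈ Set.range j ∧
      HS.pull (ZMod n) j (O' := j ⁻¹ᵁ O) le_rfl (2 * m) c =
        HS.pull (ZMod n) φ (hφ.preimage h.compl).ge (2 * m) κ) : c = fc h κ := by
  refine h.pur.eq_of_local _ _ fun y hy => ?_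
  obtain ⟨U, j, _, _, φ, hφ, hyj, e⟩ := hc y hy
  exact ⟨U, j, inferInstance, hyj, e.trans (fc_chart h κ j φ hφ rfl _).symm⟩

/-- **Compatibility of fundamental classes with pull-backs.** -/
theorem fc_pull (h : LCI x i O m n) (κ : HS (ZMod n) (O0 k m) (2 * m)) {X' Z' : Scheme.{u}}
    [IsLocallyNoetherian X'] [CompactSpace X'] {x' : X' ⟶ Spec (CommRingCat.of k)} {i' : Z' ⟶ X'}
    [IsClosedImmersion i'] {O' : X'.Opens} (h' : LCI x' i' O' m n) (g : X' ⟶ X) (hg : g ≫ x = x')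
    (hi : i.ker.comap g = i'.ker) (hO' : O' ≤ g ⁻¹ᵁ O) :
    HS.pull (ZMod n) g hO' (2 * m) (fc h κ) = fc h' κ := by
  refine h'.ext _ _ fun U φ hφ => ?_
  have c1 : IsCh x i (U.ι ≫ g) φ := by
    refine ⟨?_, ?_⟩
    · rw [Category.assoc, hg]
      exact hφ.hstr
    · rw [Scheme.IdealSheafData.comap_comp, hi]
      exact hφ.ideal
  have hU := compactSpace_opens U
  have hO'' : (U.ι ≫ g) ⁻¹ᵁ O = U.ι ⁻¹ᵁ O' :=
    (c1.preimage h.compl).symm.trans (hφ.preimage h'.compl)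
  have e1 := fc_main h κ (U.ι ≫ g) φ c1 (O' := U.ι ⁻¹ᵁ O') hO''.ge hO''.le
    (hφ.preimage h'.compl).ge (h'.pur.of_open U.ι)
  have e2 := HS.pull_comp (ZMod n) U.ι g _ rfl (le_refl (U.ι ⁻¹ᵁ O')) hO' hO''.ge (2 * m)
    (fc h κ)
  exact e2.trans (e1.trans (fc_chart' h' κ U φ hφ).symm)

end

end Groth.Agent.Vancyc.H327
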