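import Groth.Agent.Vancyc.H327.Supp
import Groth.Agent.Etrest.HpullAcyc
import Groth.Agent.Etrest.IsoInv
import Groth.Agent.Etcore.MVViaAbs

/-!
# Étale cohomology with supports II (S4009)

* `HS.pull_id`, `HS.pull_bijective_of_isIso`, `HS.pull_bijective_of_acyc` (homotopy invariance);
* the long exact sequence: `HS.exists_forget`, `HS.exists_delta`, `HS.eq_zero_of_hpull`;
* localisation: `psiQ` : `Ext (j_! j⁻¹ ZQ O) M ≃ HS M (j⁻¹ O)`;
* Mayer-Vietoris in `HS`: `HS.exists_mv`, `HS.eq_zero_mv`;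
* excision for an open subscheme: `HS.pull_bijective_of_open`.
-/

set_option autoImplicit false
set_option backward.isDefEq.respectTransparency false
set_option backward.isDefEq.respectTransparency.types false
universe u
open CategoryTheory CategoryTheory.Limits AlgebraicGeometry Opposite Abelian
open scoped Groth.Agent.Etcore.EtInst
open Groth.Agent.Etcore.EtInst

namespace Groth.Agent.Vancyc.H327

open Groth.Agent.Etcore.MVShriek Groth.Agent.Etcore.MVbc Groth.Agent.Etcore.PullCoh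
open Groth.Agent.Sga4B.ExtCmp Groth.Agent.EtpbcB.HRel

noncomputable section

variable {X Y Z T : Scheme.{u}} (M : Type) [AddCommGroup M]

/-! ### Bijectivity of pull-backs -/

/-- A criterion for `HS.pull` to be bijective. -/
theorem HS.pull_bijective_of (f : X ⟶ Y) {O' : X.Opens} {O : Y.Opens} (h : O' = f ⁻¹ᵁ O) (q : ℕ)
    (h1 : Function.Bijective (fun e : Ext.{u + 1} (ZQ O) (EtCoh.const Y M) q =>
      e.mapExactFunctor (EtCoh.pull f))) :
    Function.Bijective (HS.pull M f h.le q) := by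
  have := isIso_bQ f h
  exact (postcomp_bijective (EtCore.pullConst f M).hom q).comp
    ((Etcore.MVbcAbs.precomp_bijective (bQ f h.le) _ q).comp h1)

theorem hpull_bijective_of (f : X ⟶ Y) (q : ℕ)
    (h1 : Function.Bijective (fun e : Ext.{u + 1} (EtCoh.const Y ℤ) (EtCoh.const Y M) q =>
      e.mapExactFunctor (EtCoh.pull f))) :
    Function.Bijective (hpull M f q) :=
  (postcomp_bijective (EtCore.pullConst f M).hom q).comp
    ((Etcore.MVbcAbs.precomp_bijective (EtCore.pullConst f ℤ).inv _ q).comp h1)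

theorem HS.pull_bijective_of_isIso (f : X ⟶ Y) [IsIso f] {O' : X.Opens} {O : Y.Opens}
    (h : O' = f ⁻¹ᵁ O) (q : ℕ) : Function.Bijective (HS.pull M f h.le q) :=
  HS.pull_bijective_of M f h q (Etrest.IsoInv.bijective_mapExact f _ _ q)

theorem hpull_bijective_of_isIso (f : X ⟶ Y) [IsIso f] (q : ℕ) :
    Function.Bijective (hpull M f q) :=
  hpull_bijective_of M f q (Etrest.IsoInv.bijective_mapExact f _ _ q)

theorem HS.pull_id {O : X.Opens} (h : O ≤ (𝟙 X) ⁻¹ᵁ O) (q : ℕ) (e : HS M O q) :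
    HS.pull M (𝟙 X) h q e = e :=
  (HS.pull_bijective_of_isIso M (𝟙 X) (O' := O) (O := O) rfl q).1
    (HS.pull_comp M (𝟙 X) (𝟙 X) (𝟙 X) (Category.comp_id _) h h h q e)

theorem HS.pull_id' (f : X ⟶ X) (hf : f = 𝟙 X) {O : X.Opens} (h : O ≤ f ⁻¹ᵁ O) (q : ℕ)
    (e : HS M O q) : HS.pull M f h q e = e := by
  subst hf
  exact HS.pull_id M h q e

theorem hpull_id (q : ℕ) (e : HC M X q) : hpull M (𝟙 X) q e = e :=
  (hpull_bijective_of_isIso M (𝟙 X) q).1
    (hpull_comp M (𝟙 X) (𝟙 X) (𝟙 X) (Category.comp_id _) q e)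

theorem hpull_id' (f : X ⟶ X) (hf : f = 𝟙 X) (q : ℕ) (e : HC M X q) : hpull M f q e = e := by
  subst hf
  exact hpull_id M q e

/-- `HS.pull` is bijective along a morphism `p` with `M = p_* p^* M`, `R^q p_* p^* M = 0`. -/
theorem HS.pull_bijective_of_acyc (f : X ⟶ Y) {O' : X.Opens} {O : Y.Opens} (h : O' = f ⁻¹ᵁ O)
    (h0 : IsIso ((EtCoh.pullPushAdj f).unit.app (EtCoh.const Y M)))
    (h1 : ∀ q : ℕ, 0 < q → IsZero ((EtCoh.Rpush f q).obj
      ((EtCoh.pull f).obj (EtCoh.const Y M)))) (q : ℕ) :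
    Function.Bijective (HS.pull M f h.le q) :=
  HS.pull_bijective_of M f h q
    (Etrest.HpullAcyc.mapExact_bijective (EtCoh.pull f) (EtCoh.pullPushAdj f) (ZQ O) q
      (EtCoh.const Y M) h1)

theorem hpull_bijective_of_acyc (f : X ⟶ Y)
    (h0 : IsIso ((EtCoh.pullPushAdj f).unit.app (EtCoh.const Y M)))
    (h1 : ∀ q : ℕ, 0 < q → IsZero ((EtCoh.Rpush f q).obj
      ((EtCoh.pull f).obj (EtCoh.const Y M)))) (q : ℕ) :
    Function.Bijective (hpull M f q) :=
  hpull_bijective_of M f q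
    (Etrest.HpullAcyc.mapExact_bijective (EtCoh.pull f) (EtCoh.pullPushAdj f)
      (EtCoh.const Y ℤ) q (EtCoh.const Y M) h1)

/-! ### The long exact sequence of a support -/

/-- `H^q(X) ⟶ H^q(O)` in terms of `Ext (ℤ[O])`. -/
theorem hpull_ι_eq (O : X.Opens) (q : ℕ) (x : HC M X q) :
    hpull M O.ι q x = (psi O.ι (EtCoh.const X M) q
      ((Ext.mk₀ (c O.ι (EtCoh.const X ℤ))).comp x (zero_add q))).comp
        (Ext.mk₀ (EtCore.pullConst O.ι M).hom) (add_zero q) := by
  have h : psi O.ι (EtCoh.const X M) q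
      ((Ext.mk₀ (c O.ι (EtCoh.const X ℤ))).comp x (zero_add q)) =
      EtCore.Hpull O.ι (EtCoh.const X M) q x := by
    rw [psi_eq]
    exact (Etcore.MVEt.Hpull_eq O.ι (EtCoh.const X M) q x).symm
  rw [h]
  rfl

theorem hpull_ι_eq_zero_iff (O : X.Opens) (q : ℕ) (x : HC M X q) :
    hpull M O.ι q x = 0 ↔ (Ext.mk₀ (c O.ι (EtCoh.const X ℤ))).comp x (zero_add q) = 0 := by
  rw [hpull_ι_eq]
  constructor
  · intro h
    apply (psi_bijective O.ι (EtCoh.const X M) q).1
    apply (postcomp_bijective (EtCore.pullConst O.ι M).hom q).1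
    refine h.trans ?_
    simp
  · intro h
    rw [h, map_zero, Ext.zero_comp]

/-- Exactness at `H^q(X)`. -/
theorem HS.exists_forget (O : X.Opens) (q : ℕ) (x : HC M X q) (hx : hpull M O.ι q x = 0) :
    ∃ y : HS M O q, HS.forget M O q y = x :=
  Ext.contravariant_sequence_exact₂ (ses_shortExact O) (EtCoh.const X M) x
    ((hpull_ι_eq_zero_iff M O q x).1 hx)

/-- The composite `H_Z^q(X) ⟶ H^q(X) ⟶ H^q(O)` vanishes. -/
theorem HS.hpull_forget (O : X.Opens) (q : ℕ) (y : HS M O q) :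
    hpull M O.ι q (HS.forget M O q y) = 0 := by
  rw [hpull_ι_eq_zero_iff, HS.forget_apply, ← Ext.comp_assoc_of_second_deg_zero,
    Ext.mk₀_comp_mk₀, c_ZQπ, Ext.mk₀_zero, Ext.zero_comp]

/-- The equivalence `Ext (ℤ[O]) M ≃ H(O, M)`. -/
def extP (O : X.Opens) (q : ℕ) : Ext.{u + 1} (P O.ι (EtCoh.const X ℤ)) (EtCoh.const X M) q →+
    HC M (O : Scheme.{u}) q :=
  ((Ext.mk₀ (EtCore.pullConst O.ι M).hom).postcomp (EtCoh.const _ ℤ) (add_zero q)).comp
    (psi O.ι (EtCoh.const X M) q)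

theorem extP_bijective (O : X.Opens) (q : ℕ) : Function.Bijective (extP M O q) :=
  (postcomp_bijective (EtCore.pullConst O.ι M).hom q).comp (psi_bijective O.ι _ q)

theorem extP_c (O : X.Opens) (q : ℕ) (x : HC M X q) :
    extP M O q ((Ext.mk₀ (c O.ι (EtCoh.const X ℤ))).comp x (zero_add q)) = hpull M O.ι q x :=
  (hpull_ι_eq M O q x).symm

/-- The equivalence `Ext (ℤ[O]) M ≃ H(O, M)`. -/
def extPEquiv (O : X.Opens) (q : ℕ) :
    Ext.{u + 1} (P O.ι (EtCoh.const X ℤ)) (EtCoh.const X M) q ≃+ HC M (O : Scheme.{u}) q :=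
  AddEquiv.ofBijective (extP M O q) (extP_bijective M O q)

/-- The connecting map `H^q(O) ⟶ H_Z^{q+1}(X)`. -/
def HS.delta (O : X.Opens) (q q' : ℕ) (h : 1 + q = q') : HC M (O : Scheme.{u}) q →+ HS M O q' :=
  AddMonoidHom.comp ((ses_shortExact O).extClass.precomp (EtCoh.const X M) h)
    (AddEquiv.toAddMonoidHom (extPEquiv M O q).symm)

theorem HS.delta_extP (O : X.Opens) (q q' : ℕ) (h : 1 + q = q')
    (e : Ext.{u + 1} (P O.ι (EtCoh.const X ℤ)) (EtCoh.const X M) q) :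
    HS.delta M O q q' h (extP M O q e) = (ses_shortExact O).extClass.comp e h := by
  change (ses_shortExact O).extClass.comp ((extPEquiv M O q).symm (extPEquiv M O q e)) h = _
  rw [AddEquiv.symm_apply_apply]

/-- Exactness at `H_Z^q(X)`. -/
theorem HS.exists_delta (O : X.Opens) (q q' : ℕ) (h : 1 + q = q') (y : HS M O q')
    (hy : HS.forget M O q' y = 0) : ∃ z : HC M (O : Scheme.{u}) q, HS.delta M O q q' h z = y := by
  obtain ⟨e, he⟩ := Ext.contravariant_sequence_exact₃ (ses_shortExact O) (EtCoh.const X M) y hy h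
  exact ⟨extP M O q e, (HS.delta_extP M O q q' h e).trans he⟩

theorem HS.forget_delta (O : X.Opens) (q q' : ℕ) (h : 1 + q = q') (z : HC M (O : Scheme.{u}) q) :
    HS.forget M O q' (HS.delta M O q q' h z) = 0 := by
  obtain ⟨e, rfl⟩ := (extP_bijective M O q).2 z
  rw [HS.delta_extP, HS.forget_apply]
  exact (ses_shortExact O).comp_extClass_assoc e h

/-- Exactness at `H^q(O)`. -/
theorem HS.exists_hpull (O : X.Opens) (q q' : ℕ) (h : 1 + q = q') (z : HC M (O : Scheme.{u}) q)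
    (hz : HS.delta M O q q' h z = 0) : ∃ x : HC M X q, hpull M O.ι q x = z := by
  obtain ⟨e, rfl⟩ := (extP_bijective M O q).2 z
  rw [HS.delta_extP] at hz
  obtain ⟨x, hx⟩ := Ext.contravariant_sequence_exact₁ (ses_shortExact O) (EtCoh.const X M) e h hz
  exact ⟨x, by rw [← extP_c, ← hx]; rfl⟩

theorem HS.delta_hpull (O : X.Opens) (q q' : ℕ) (h : 1 + q = q') (x : HC M X q) :
    HS.delta M O q q' h (hpull M O.ι q x) = 0 := by
  rw [← extP_c, HS.delta_extP]
  exact (ses_shortExact O).extClass_comp_assoc x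

/-- `H_Z^0 = 0` if `H^0(X) ⟶ H^0(O)` is injective. -/
theorem HS.subsingleton_zero (O : X.Opens) (h : Function.Injective (hpull M O.ι 0)) :
    Subsingleton (HS M O 0) := by
  refine ⟨fun a b => ?_⟩
  have h1 : ∀ a : HS M O 0, HS.forget M O 0 a = 0 := fun a =>
    h ((HS.hpull_forget M O 0 a).trans (map_zero _).symm)
  obtain ⟨a', rfl⟩ := (Ext.mk₀_bijective _ _).2 a
  obtain ⟨b', rfl⟩ := (Ext.mk₀_bijective _ _).2 b
  have h2 := h1 (Ext.mk₀ a')
  have h3 := h1 (Ext.mk₀ b')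
  rw [HS.forget_apply, Ext.mk₀_comp_mk₀] at h2 h3
  have h4 : ZQπ O ≫ a' = 0 := (Ext.mk₀_eq_zero_iff _).1 h2
  have h5 : ZQπ O ≫ b' = 0 := (Ext.mk₀_eq_zero_iff _).1 h3
  rw [(cancel_epi (ZQπ O)).1 (h4.trans h5.symm)]

/-- `H_Z^{q+1} = 0` if `H^{q+1}(X) ⟶ H^{q+1}(O)` is injective and `H^q(X) ⟶ H^q(O)` is
surjective. -/
theorem HS.subsingleton_succ (O : X.Opens) (q : ℕ) (h : Function.Injective (hpull M O.ι (q + 1)))
    (h' : Function.Surjective (hpull M O.ι q)) : Subsingleton (HS M O (q + 1)) := by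
  have h1 : ∀ a : HS M O (q + 1), a = 0 := fun a => by
    have h2 : HS.forget M O (q + 1) a = 0 :=
      h ((HS.hpull_forget M O (q + 1) a).trans (map_zero _).symm)
    obtain ⟨z, hz⟩ := HS.exists_delta M O q (q + 1) (add_comm 1 q) a h2
    obtain ⟨x, hx⟩ := h' z
    rw [← hz, ← hx, HS.delta_hpull]
  exact ⟨fun a b => (h1 a).trans (h1 b).symm⟩

/-- If `H_Z^q(X) = 0` then `H^q(X) ⟶ H^q(O)` is injective. -/
theorem HS.injective_hpull (O : X.Opens) (q : ℕ) (h : Subsingleton (HS M O q)) :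
    Function.Injective (hpull M O.ι q) := by
  rw [injective_iff_map_eq_zero]
  intro x hx
  obtain ⟨y, hy⟩ := HS.exists_forget M O q x hx
  rw [← hy, Subsingleton.elim y 0, map_zero]

/-- If `H_Z^{q+1}(X) = 0` then `H^q(X) ⟶ H^q(O)` is surjective. -/
theorem HS.surjective_hpull (O : X.Opens) (q : ℕ) (h : Subsingleton (HS M O (q + 1))) :
    Function.Surjective (hpull M O.ι q) := fun z =>
  HS.exists_hpull M O q (q + 1) (add_comm 1 q) z (Subsingleton.elim _ _)

end

end Groth.Agent.Vancyc.H327
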