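import Groth.Agent.Vancyc.H327.FC3

/-!
# Self-intersection classes (S4009)

* `sint h κ := i^*(cl Z) ∈ H^{2m}(Z, ℤ/n)`;
* `sint_pull`: compatibility with pull-backs;
* `sint_section`: for `π : X ⟶ Z` acyclic and `i ≫ π = 𝟙`, `σ^*(cl Z) = sint h κ` for every section
  `σ` of `π`.
-/

set_option autoImplicit false
universe u
open CategoryTheory CategoryTheory.Limits AlgebraicGeometry Opposite Topology

namespace Groth.Agent.Vancyc.H327

open Groth.Agent.Sga4h.H13 (Aff origin origin_str)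

noncomputable section

variable {k : Type u} [Field k] {m n : ℕ}
  {X Z : Scheme.{u}} {x : X ⟶ Spec (CommRingCat.of k)} {i : Z ⟶ X} {O : X.Opens}

section

variable [IsLocallyNoetherian X] [CompactSpace X] [IsClosedImmersion i]

/-- The cycle class of `Z` in `H^{2m}(X, ℤ/n)`. -/
def cyc (h : LCI x i O m n) : HS (ZMod n) (O0 k m) (2 * m) →+ HC (ZMod n) X (2 * m) :=
  (HS.forget (ZMod n) O (2 * m)).comp (fc h)

theorem cyc_apply (h : LCI x i O m n) (κ : HS (ZMod n) (O0 k m) (2 * m)) :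
    cyc h κ = HS.forget (ZMod n) O (2 * m) (fc h κ) := rfl

/-- The restriction of the cycle class of `Z` to `Z`. -/
def sint (h : LCI x i O m n) : HS (ZMod n) (O0 k m) (2 * m) →+ HC (ZMod n) Z (2 * m) :=
  (hpull (ZMod n) i (2 * m)).comp (cyc h)

theorem sint_apply (h : LCI x i O m n) (κ : HS (ZMod n) (O0 k m) (2 * m)) :
    sint h κ = hpull (ZMod n) i (2 * m) (cyc h κ) := rfl

/-- The cycle class does not depend on the complement. -/
theorem cyc_congr {O' : X.Opens} {i' : Z ⟶ X} [IsClosedImmersion i'] (h : LCI x i O m n)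
    (h' : LCI x i' O' m n) (e : i = i') (κ : HS (ZMod n) (O0 k m) (2 * m)) :
    cyc h κ = cyc h' κ := by
  subst e
  obtain rfl : O = O' := SetLike.coe_injective (h.compl.trans h'.compl.symm)
  rfl

variable {X' Z' : Scheme.{u}} [IsLocallyNoetherian X'] [CompactSpace X']
  {x' : X' ⟶ Spec (CommRingCat.of k)} {i' : Z' ⟶ X'} [IsClosedImmersion i'] {O' : X'.Opens}
  {g' : Z' ⟶ Z} {g : X' ⟶ X}

omit [IsLocallyNoetherian X] [CompactSpace X] [IsClosedImmersion i] [IsLocallyNoetherian X']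
  [CompactSpace X'] [IsClosedImmersion i'] in
theorem le_preimage_of_isPullback (h : LCI x i O m n) (h' : LCI x' i' O' m n)
    (w : IsPullback i' g' g i) : O' ≤ g ⁻¹ᵁ O := by
  intro y hy
  have h1 : y ∈ (O' : Set X') := hy
  rw [h'.compl] at h1
  change g y ∈ (O : Set X)
  rw [h.compl]
  intro h2
  apply h1
  have h3 : Set.range i' = g ⁻¹' Set.range i := by
    rw [← w.isoPullback_hom_fst, Scheme.Hom.comp_base, TopCat.coe_comp,
      (Function.Surjective.range_comp (w.isoPullback.hom.surjective) _), Scheme.Pullback.range_fst]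
  rw [h3]
  exact h2

/-- The cycle class and cartesian squares. -/
theorem cyc_pull (h : LCI x i O m n) (κ : HS (ZMod n) (O0 k m) (2 * m)) (h' : LCI x' i' O' m n)
    (hg : g ≫ x = x') (w : IsPullback i' g' g i) :
    hpull (ZMod n) g (2 * m) (cyc h κ) = cyc h' κ := by
  rw [cyc_apply, ← HS.forget_pull (ZMod n) g (le_preimage_of_isPullback h h' w),
    fc_pullback h κ h' hg w, cyc_apply]

/-- The self-intersection class and cartesian squares. -/
theorem sint_pull (h : LCI x i O m n) (κ : HS (ZMod n) (O0 k m) (2 * m)) (h' : LCI x' i' O' m n)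
    (hg : g ≫ x = x') (w : IsPullback i' g' g i) :
    hpull (ZMod n) g' (2 * m) (sint h κ) = sint h' κ := by
  rw [sint_apply, sint_apply, ← cyc_pull h κ h' hg w,
    hpull_comp (ZMod n) i' g (i' ≫ g) rfl, hpull_comp (ZMod n) g' i (i' ≫ g) w.w.symm]

/-- **Sections.** If `π : X ⟶ Z` is acyclic, then all sections pull the cycle class back to the
same class. -/
theorem sint_section (h : LCI x i O m n) (κ : HS (ZMod n) (O0 k m) (2 * m)) (π : X ⟶ Z)
    (hπ : Sga4B.AcycMor.Acyc n π) (hi : i ≫ π = 𝟙 Z) (σ : Z ⟶ X) (hσ : σ ≫ π = 𝟙 Z) :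
    hpull (ZMod n) σ (2 * m) (cyc h κ) = sint h κ := by
  obtain ⟨c, hc⟩ := (hpull_bijective_of_acycMor π n hπ (2 * m)).2 (cyc h κ)
  rw [sint_apply, ← hc, hpull_comp (ZMod n) σ π (𝟙 Z) hσ, hpull_comp (ZMod n) i π (𝟙 Z) hi]

/-- The cycle class is the pull-back of the self-intersection class if `π` is acyclic. -/
theorem cyc_eq_hpull (h : LCI x i O m n) (κ : HS (ZMod n) (O0 k m) (2 * m)) (π : X ⟶ Z)
    (hπ : Sga4B.AcycMor.Acyc n π) (hi : i ≫ π = 𝟙 Z) :
    hpull (ZMod n) π (2 * m) (sint h κ) = cyc h κ := by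
  obtain ⟨c, hc⟩ := (hpull_bijective_of_acycMor π n hπ (2 * m)).2 (cyc h κ)
  rw [sint_apply, ← hc, hpull_comp (ZMod n) i π (𝟙 Z) hi, hpull_comp (ZMod n) π (𝟙 Z) π (by simp)]

end

end

end Groth.Agent.Vancyc.H327
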