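import Groth.Agent.Vancyc.H327.Supp3
import Groth.Agent.Sga4h.TensorConst
import Groth.Agent.Sga4B.LineAff
import Groth.Agent.Sga4B.SemiPurity2
import Groth.Agent.Sga4B.SuppFun
import Groth.Agent.S3099
import Groth.Agent.Etrest.ConstBasic
import Groth.Agent.Etbc.H234.LerayRange

/-!
# Semi-purity and homotopy invariance for cohomology with supports (S4009)

* `subsingleton_HS`: `H^q_Z(X, ℤ/n) = 0` for `q < 2c`, `X` smooth over a field, `codim Z ≥ c`;
* `subsingleton_HS_of_open`: the same if `X` is only smooth near `Z`;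
* `subsingleton_HS_pair`: the same for smooth pairs of codimension `c` over any base;
* `acyc_affineSpace`: affine spaces are acyclic; `HS.pull_bijective_of_acycMor`.
-/

set_option autoImplicit false
set_option backward.isDefEq.respectTransparency false
set_option backward.isDefEq.respectTransparency.types false
universe u
open CategoryTheory CategoryTheory.Limits AlgebraicGeometry Opposite Abelian
open scoped Groth.Agent.Etcore.EtInst
open Groth.Agent.Etcore.EtInst

namespace Groth.Agent.Vancyc.H327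

open Groth.Agent.Etcore.MVShriek Groth.Agent.Etcore.MVbc Groth.Agent.Etcore.PullCoh
open Groth.Agent.Sga4B.ExtCmp Groth.Agent.EtpbcB.HRel

noncomputable section

variable {X Y : Scheme.{u}}

/-- `hpull` in a range of degrees. -/
theorem hpull_range (M : Type) [AddCommGroup M] (f : X ⟶ Y) (n : ℕ)
    (h0 : IsIso ((EtCoh.pullPushAdj f).unit.app (EtCoh.const Y M)))
    (hR : ∀ q : ℕ, 1 ≤ q → q ≤ n → IsZero ((EtCoh.Rpush f q).obj
      ((EtCoh.pull f).obj (EtCoh.const Y M)))) :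
    (∀ q : ℕ, q ≤ n → Function.Bijective (hpull M f q)) ∧
      Function.Injective (hpull M f (n + 1)) := by
  obtain ⟨h1, h2⟩ := Groth.Agent.Etbc.H234.LerayRange.Hpull_range_of_isIso_unit f
    (EtCoh.const Y M) n h0 hR
  have h3 : ∀ q, Function.Bijective (fun x : Ext.{u + 1} (EtCoh.const X ℤ)
      ((EtCoh.pull f).obj (EtCoh.const Y M)) q =>
        x.comp (Ext.mk₀ (EtCore.pullConst f M).hom) (add_zero q)) := fun q =>
    postcomp_bijective (EtCore.pullConst f M).hom q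
  exact ⟨fun q hq => (h3 q).comp (h1 q hq), (h3 (n + 1)).1.comp h2⟩

/-- Vanishing of cohomology with supports from the direct images. -/
theorem subsingleton_HS_of_Rpush (M : Type) [AddCommGroup M] (O : X.Opens) (c : ℕ)
    (h0 : IsIso ((EtCoh.pullPushAdj O.ι).unit.app (EtCoh.const X M)))
    (hR : ∀ q : ℕ, 1 ≤ q → q + 1 < 2 * c → IsZero ((EtCoh.Rpush O.ι q).obj
      ((EtCoh.pull O.ι).obj (EtCoh.const X M)))) (q : ℕ) (hq : q < 2 * c) :
    Subsingleton (HS M O q) := by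
  obtain ⟨h1, h2⟩ := hpull_range M O.ι (2 * c - 2) h0 (fun q h1 h2 => hR q h1 (by omega))
  cases q with
  | zero => exact HS.subsingleton_zero _ O (h1 0 (by omega)).1
  | succ q =>
    refine HS.subsingleton_succ _ O q ?_ (h1 q (by omega)).2
    by_cases h : q + 1 ≤ 2 * c - 2
    · exact (h1 _ h).1
    · have h3 : q + 1 = 2 * c - 2 + 1 := by omega
      rw [h3]
      exact h2

/-- Semi-purity: `H^q_Z(X, ℤ/n) = 0` for `q < 2 codim(Z)`. -/
theorem subsingleton_HS {k : Type u} [Field k] {X : Scheme.{u}} (f : X ⟶ Spec (CommRingCat.of k))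
    [Smooth f] (O : X.Opens) (c : ℕ)
    (hY : ∀ x : X, x ∉ O → (c : WithBot ℕ∞) ≤ ringKrullDim (X.presheaf.stalk x)) (n : ℕ)
    (hn : (n : k) ≠ 0) (q : ℕ) (hq : q < 2 * c) : Subsingleton (HS (ZMod n) O q) := by
  have hY' : ∀ x : X, x ∉ Set.range O.ι →
      (c : WithBot ℕ∞) ≤ ringKrullDim (X.presheaf.stalk x) := by
    rw [Scheme.Opens.range_ι]
    exact hY
  have h1 := fun q hq => Sga4B.SemiPurity.isZero_locCoh_const_smooth f O.ι c hY' n hn q hq
  refine subsingleton_HS_of_Rpush (ZMod n) O c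
    (Sga4B.SuppFun.isIso_unit O.ι _ (h1 0 (by omega)) (h1 1 (by omega))) (fun q hq1 hq2 => ?_) q hq
  exact Sga4B.SuppFun.isZero_Rpush O.ι q hq1 _ (h1 (q + 1) hq2)

/-- Purity for smooth pairs over an arbitrary base. -/
theorem subsingleton_HS_pair {S Z : Scheme.{u}} (f : X ⟶ S) (i : Z ⟶ X) [IsClosedImmersion i]
    (r c : ℕ) [SmoothOfRelativeDimension (r + c) f] [SmoothOfRelativeDimension r (i ≫ f)]
    (O : X.Opens) (hO : (O : Set X) = (Set.range i)ᶜ) (n : ℕ) (hn0 : n ≠ 0)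
    (hn : IsUnit (n : Γ(X, ⊤))) (q : ℕ) (hq : q < 2 * c) : Subsingleton (HS (ZMod n) O q) := by
  have hn' : NeZero n := ⟨hn0⟩
  obtain ⟨h0, h1⟩ := Groth.Agent.S3099.result f (i ≫ f) i r c (by omega) rfl O.ι
    (by rw [Scheme.Opens.range_ι]; exact hO) n hn (EtCoh.const X (ZMod n))
    (Etrest.ConstBasic.isFiniteLocallyConstant_const X (ZMod n))
    (Sga4h.TensorConst.killedBy_const n)
  exact subsingleton_HS_of_Rpush (ZMod n) O c h0 (fun q h2 h3 => h1 q (by omega) (by omega)) q hq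

/-- Dimension of local rings and open immersions. -/
theorem ringKrullDim_stalk_eq (j : X ⟶ Y) [IsOpenImmersion j] (x : X) :
    ringKrullDim (X.presheaf.stalk x) = ringKrullDim (Y.presheaf.stalk (j x)) :=
  ringKrullDim_eq_of_ringEquiv
    (asIso (j.stalkMap x)).commRingCatIsoToRingEquiv.symm

/-- Semi-purity if `X` is smooth near `Z`. -/
theorem subsingleton_HS_of_open {k : Type u} [Field k] {X U : Scheme.{u}}
    (j : U ⟶ X) [IsOpenImmersion j] (f : U ⟶ Spec (CommRingCat.of k)) [Smooth f] (O : X.Opens)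
    (hU : ∀ x : X, x ∉ O → x ∈ Set.range j) (c : ℕ)
    (hY : ∀ x : X, x ∉ O → (c : WithBot ℕ∞) ≤ ringKrullDim (X.presheaf.stalk x)) (n : ℕ)
    (hn : (n : k) ≠ 0) (q : ℕ) (hq : q < 2 * c) : Subsingleton (HS (ZMod n) O q) := by
  have h1 : Subsingleton (HS (ZMod n) (j ⁻¹ᵁ O) q) :=
    subsingleton_HS f (j ⁻¹ᵁ O) c (fun x hx => by
      rw [ringKrullDim_stalk_eq j x]
      exact hY _ hx) n hn q hq
  exact (HS.pull_bijective_of_open (ZMod n) j (O' := j ⁻¹ᵁ O) rfl hU q).1.subsingleton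

/-- Affine spaces are acyclic. -/
theorem acyc_affineSpace (Y : Scheme.{u}) (m n : ℕ) (hn : IsUnit (n : Γ(Y, ⊤))) :
    Sga4B.AcycMor.Acyc n (𝔸(ULift.{u} (Fin m); Y) ↘ Y) :=
  Sga4B.Line.acyc_affineSpace n (fun g hg h => Sga4B.LineAff.acyc_line hg h) Y hn m

theorem killedBy_const (Y : Scheme.{u}) (n : ℕ) : EtCoh.KilledBy n (EtCoh.const Y (ZMod n)) :=
  Sga4h.TensorConst.killedBy_const n

theorem HS.pull_bijective_of_acycMor (f : X ⟶ Y) (n : ℕ) (hf : Sga4B.AcycMor.Acyc n f)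
    {O' : X.Opens} {O : Y.Opens} (h : O' = f ⁻¹ᵁ O) (q : ℕ) :
    Function.Bijective (HS.pull (ZMod n) f h.le q) := by
  obtain ⟨h0, h1⟩ := hf (EtCoh.const Y (ZMod n)) (killedBy_const Y n)
  exact HS.pull_bijective_of_acyc (ZMod n) f h h0 h1 q

theorem hpull_bijective_of_acycMor (f : X ⟶ Y) (n : ℕ) (hf : Sga4B.AcycMor.Acyc n f) (q : ℕ) :
    Function.Bijective (hpull (ZMod n) f q) := by
  obtain ⟨h0, h1⟩ := hf (EtCoh.const Y (ZMod n)) (killedBy_const Y n)
  exact hpull_bijective_of_acyc (ZMod n) f h0 h1 q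

end

end Groth.Agent.Vancyc.H327
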