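import Groth.Agent.Vancyc.H327.Supp4
import Groth.Agent.Vancyc.H327.AffO
import Groth.Agent.Vancyc.H327.Inputs
import Groth.Agent.Sga4B.Line
import Groth.Agent.Vancyc.H677.Dim1
import Mathlib.LinearAlgebra.Matrix.NonsingularInverse

/-!
# Invariance of classes with support in the origin under `GL_m` (S4009)

For `κ ∈ H^{2m}_0(𝔸^m, ℤ/n)`, `T` over `k`, functions `v_1, …, v_m` on `T` and `Q ∈ GL_m(Γ(T))`:
the pull-backs of `κ` by `v` and by `Q v` agree (`HS.pull_mulVec`).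
-/

set_option autoImplicit false
universe u
open CategoryTheory CategoryTheory.Limits AlgebraicGeometry Opposite

namespace Groth.Agent.Vancyc.H327

open Groth.Agent.Sga4h.H13 (Aff origin origin_str)

noncomputable section

variable {k : Type u} [Field k] {m : ℕ}

/-- The index type. -/
abbrev Ix (m : ℕ) : Type u := ULift.{u} (Fin m)

section Vec

variable {T : Scheme.{u}} (t : T ⟶ Spec (CommRingCat.of k)) (v : Ix.{u} m → Γ(T, ⊤))
  (Q : Matrix (Ix.{u} m) (Ix.{u} m) Γ(T, ⊤))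

theorem mem_preimage_toAff_iff (x : T) :
    x ∈ toAff t v ⁻¹ᵁ O0 k m ↔ ∃ i, x ∈ T.basicOpen (v i) := by
  rw [mem_preimage_O0_iff, vec_toAff]

theorem mem_basicOpen_mulVec (x : T) (i : Ix.{u} m) (hi : x ∈ T.basicOpen (Q.mulVec v i)) :
    ∃ j, x ∈ T.basicOpen (v j) := by
  by_contra h
  push Not at h
  rw [Scheme.mem_basicOpen_top] at hi
  have h1 : T.presheaf.germ ⊤ x trivial (Q.mulVec v i) ∈
      IsLocalRing.maximalIdeal (T.presheaf.stalk x) := by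
    rw [Matrix.mulVec, dotProduct, map_sum]
    refine Ideal.sum_mem _ fun j _ => ?_
    rw [map_mul]
    refine Ideal.mul_mem_left _ _ ?_
    rw [IsLocalRing.mem_maximalIdeal, mem_nonunits_iff]
    intro h2
    exact h j ((Scheme.mem_basicOpen_top _ _ _).2 h2)
  exact h1 hi

theorem preimage_mulVec_le : toAff t (Q.mulVec v) ⁻¹ᵁ O0 k m ≤ toAff t v ⁻¹ᵁ O0 k m := by
  intro x hx
  rw [mem_preimage_toAff_iff] at hx ⊢
  obtain ⟨i, hi⟩ := hx
  exact mem_basicOpen_mulVec v Q x i hi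

theorem preimage_mulVec_eq (hQ : IsUnit Q.det) :
    toAff t (Q.mulVec v) ⁻¹ᵁ O0 k m = toAff t v ⁻¹ᵁ O0 k m := by
  refine le_antisymm (preimage_mulVec_le t v Q) ?_
  have h1 : Q⁻¹.mulVec (Q.mulVec v) = v := by
    rw [Matrix.mulVec_mulVec, Matrix.nonsing_inv_mul _ hQ, Matrix.one_mulVec]
  have h2 := preimage_mulVec_le t (Q.mulVec v) Q⁻¹
  rwa [h1] at h2

end Vec

/-! ### The universal situation -/

/-- `𝔸^{m²} × 𝔸^m`. -/
abbrev Eg (k : Type u) [Field k] (m : ℕ) : Scheme.{u} := 𝔸(ULift.{u} (Fin (m * m)); Aff k m)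

/-- The projection to `𝔸^m`. -/
abbrev Eg.pr (k : Type u) [Field k] (m : ℕ) : Eg k m ⟶ Aff k m :=
  𝔸(ULift.{u} (Fin (m * m)); Aff k m) ↘ Aff k m

/-- The structure morphism. -/
abbrev Eg.str (k : Type u) [Field k] (m : ℕ) : Eg k m ⟶ Spec (CommRingCat.of k) :=
  Eg.pr k m ≫ Aff.str k m

/-- The universal matrix. -/
def Eg.P (k : Type u) [Field k] (m : ℕ) : Matrix (Ix.{u} m) (Ix.{u} m) Γ(Eg k m, ⊤) :=
  fun i j => AffineSpace.coord (Aff k m) ⟨finProdFinEquiv (i.down, j.down)⟩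

/-- The action. -/
def Eg.act (k : Type u) [Field k] (m : ℕ) : Eg k m ⟶ Aff k m :=
  toAff (Eg.str k m) ((Eg.P k m).mulVec (vec (Eg.pr k m)))

section Univ

variable {T : Scheme.{u}} (t : T ⟶ Spec (CommRingCat.of k)) (v : Ix.{u} m → Γ(T, ⊤))
  (Q : Matrix (Ix.{u} m) (Ix.{u} m) Γ(T, ⊤))

/-- The classifying morphism of a vector and a matrix. -/
def Eg.cls : T ⟶ Eg k m :=
  AffineSpace.homOfVector (toAff t v) (fun l =>
    Q ⟨(finProdFinEquiv.symm l.down).1⟩ ⟨(finProdFinEquiv.symm l.down).2⟩)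

@[reassoc]
theorem Eg.cls_pr : Eg.cls t v Q ≫ Eg.pr k m = toAff t v :=
  AffineSpace.homOfVector_over _ _

@[reassoc]
theorem Eg.cls_str : Eg.cls t v Q ≫ Eg.str k m = t := by
  rw [Eg.cls_pr_assoc]
  exact AffineSpace.homOfVector_over _ _

theorem Eg.cls_P (i j : Ix.{u} m) : (Eg.cls t v Q).appTop (Eg.P k m i j) = Q i j := by
  refine (AffineSpace.homOfVector_appTop_coord _ _ _).trans ?_
  simp only [Equiv.symm_apply_apply]

theorem Eg.cls_vec (i : Ix.{u} m) : (Eg.cls t v Q).appTop (vec (Eg.pr k m) i) = v i := by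
  rw [← vec_comp, Eg.cls_pr, vec_toAff]

@[reassoc]
theorem Eg.cls_act : Eg.cls t v Q ≫ Eg.act k m = toAff t (Q.mulVec v) := by
  rw [Eg.act, comp_toAff, Eg.cls_str]
  congr 1
  funext i
  rw [Matrix.mulVec, dotProduct, Matrix.mulVec, dotProduct]
  erw [map_sum]
  refine Finset.sum_congr rfl fun j _ => ?_
  erw [map_mul]
  exact congrArg₂ (· * ·) (Eg.cls_P t v Q i j) (Eg.cls_vec t v Q j)

theorem Eg.cls_det : (Eg.cls t v Q).appTop (Eg.P k m).det = Q.det := by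
  have h : ∀ d, (Eg.cls t v Q).appTop d = (Eg.cls t v Q).appTop.hom d := fun _ => rfl
  rw [h, RingHom.map_det]
  congr 1
  ext i j
  exact Eg.cls_P t v Q i j

/-- `GL_m × 𝔸^m`. -/
abbrev Eg.GL (k : Type u) [Field k] (m : ℕ) : (Eg k m).Opens := (Eg k m).basicOpen (Eg.P k m).det

theorem Eg.range_cls (hQ : IsUnit Q.det) : Set.range (Eg.cls t v Q) ⊆ Set.range (Eg.GL k m).ι := by
  rw [Scheme.Opens.range_ι]
  rintro _ ⟨x, rfl⟩
  have h1 : x ∈ Eg.cls t v Q ⁻¹ᵁ (Eg k m).basicOpen (Eg.P k m).det := by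
    rw [Scheme.preimage_basicOpen_top, Eg.cls_det, Scheme.basicOpen_of_isUnit _ hQ]
    trivial
  exact h1

/-- The classifying morphism to `GL_m × 𝔸^m`. -/
def Eg.clsGL (hQ : IsUnit Q.det) : T ⟶ ((Eg.GL k m : (Eg k m).Opens) : Scheme.{u}) :=
  IsOpenImmersion.lift (Eg.GL k m).ι (Eg.cls t v Q) (Eg.range_cls t v Q hQ)

@[reassoc]
theorem Eg.clsGL_ι (hQ : IsUnit Q.det) : Eg.clsGL t v Q hQ ≫ (Eg.GL k m).ι = Eg.cls t v Q :=
  IsOpenImmersion.lift_fac _ _ _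

end Univ

/-- `n` is a unit in the functions of a `k`-scheme. -/
theorem isUnit_natCast {T : Scheme.{u}} (t : T ⟶ Spec (CommRingCat.of k)) (n : ℕ)
    (hn : (n : k) ≠ 0) : IsUnit (n : Γ(T, ⊤)) := by
  have h1 : IsUnit (n : k) := isUnit_iff_ne_zero.2 hn
  have h2 := h1.map (((Scheme.ΓSpecIso (CommRingCat.of k)).inv ≫ t.appTop).hom :
    k →+* Γ(T, ⊤))
  rwa [map_natCast] at h2

/-- The complement of the zero section in `GL_m × 𝔸^m`. -/
abbrev Eg.OD (k : Type u) [Field k] (m : ℕ) : ((Eg.GL k m : (Eg k m).Opens) : Scheme.{u}).Opens :=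
  (Eg.GL k m).ι ⁻¹ᵁ (Eg.pr k m ⁻¹ᵁ O0 k m)

theorem Eg.OD_le_pr (k : Type u) [Field k] (m : ℕ) :
    Eg.OD k m ≤ ((Eg.GL k m).ι ≫ Eg.pr k m) ⁻¹ᵁ O0 k m := le_refl (Eg.OD k m)

section Main

variable (hdim : ∀ x : Eg k m, x ∉ Eg.pr k m ⁻¹ᵁ O0 k m → x ∉ Eg.GL k m →
    ((m + 1 : ℕ) : WithBot ℕ∞) ≤ ringKrullDim ((Eg k m).presheaf.stalk x))
  (n : ℕ) (hn : (n : k) ≠ 0)

include hdim hn in
/-- Classes on `GL_m × 𝔸^m` with support in the zero section come from `𝔸^m`. -/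
theorem Eg.surjective_pull : Function.Surjective (HS.pull (ZMod n) ((Eg.GL k m).ι ≫ Eg.pr k m)
    (Eg.OD_le_pr k m) (2 * m)) := by
  have h1 : Function.Bijective (HS.pull (ZMod n) (Eg.pr k m)
      (O' := Eg.pr k m ⁻¹ᵁ O0 k m) (O := O0 k m) le_rfl (2 * m)) :=
    HS.pull_bijective_of_acycMor (Eg.pr k m) n
      (acyc_affineSpace (Aff k m) (m * m) n (isUnit_natCast (Aff.str k m) n hn)) rfl (2 * m)
  have h2 : Function.Surjective (HS.pull (ZMod n) (Eg.GL k m).ι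
      (O' := Eg.OD k m) (O := Eg.pr k m ⁻¹ᵁ O0 k m) le_rfl (2 * m)) := by
    have h3 : Smooth (Eg.str k m) := inferInstance
    refine HS.surjective_pull_of_open (ZMod n) (Eg.GL k m).ι
      (O₂ := (Eg.pr k m ⁻¹ᵁ O0 k m) ⊔ Eg.GL k m) (fun x => ?_) rfl (2 * m)
      (subsingleton_HS (Eg.str k m) _ (m + 1) (fun x hx => ?_) n hn _ (by omega))
    · rw [Scheme.Opens.range_ι]
      rfl
    · refine hdim x (fun h => hx (Or.inl h)) (fun h => hx (Or.inr h))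
  intro y
  obtain ⟨z, rfl⟩ := h2 y
  obtain ⟨w, rfl⟩ := h1.2 z
  exact ⟨w, (HS.pull_comp (ZMod n) (Eg.GL k m).ι (Eg.pr k m) _ rfl (le_refl (Eg.OD k m))
    (le_refl (Eg.pr k m ⁻¹ᵁ O0 k m)) (Eg.OD_le_pr k m) _ w).symm⟩

theorem toAff_str_coord : toAff (Aff.str k m) (AffineSpace.coord (Spec (CommRingCat.of k))) =
    𝟙 (Aff k m) := by
  refine hom_ext_vec ?_ fun i => ?_
  · rw [Category.id_comp]
    exact AffineSpace.homOfVector_over _ _
  · rw [vec_toAff, vec_def, Scheme.Hom.id_appTop]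
    rfl

/-- The unit section of `GL_m × 𝔸^m`. -/
def Eg.one (k : Type u) [Field k] (m : ℕ) : Aff k m ⟶ ((Eg.GL k m : (Eg k m).Opens) : Scheme.{u}) :=
  Eg.clsGL (Aff.str k m) (AffineSpace.coord (Spec (CommRingCat.of k))) 1
    (by rw [Matrix.det_one]; exact isUnit_one)

theorem Eg.one_pr : Eg.one k m ≫ (Eg.GL k m).ι ≫ Eg.pr k m = 𝟙 _ := by
  rw [Eg.one, Eg.clsGL_ι_assoc, Eg.cls_pr, toAff_str_coord]

theorem Eg.one_act : Eg.one k m ≫ (Eg.GL k m).ι ≫ Eg.act k m = 𝟙 _ := by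
  rw [Eg.one, Eg.clsGL_ι_assoc, Eg.cls_act, Matrix.one_mulVec, toAff_str_coord]

theorem isUnit_ι_appTop {X : Scheme.{u}} (f : Γ(X, ⊤)) :
    IsUnit ((X.basicOpen f).ι.appTop f) := by
  have h1 : IsUnit (X.presheaf.map (homOfLE (X.basicOpen_le f)).op f) :=
    X.toRingedSpace.isUnit_res_basicOpen f
  have h2 := h1.map (X.presheaf.map (homOfLE
    (show (X.basicOpen f).ι ''ᵁ ⊤ ≤ X.basicOpen f by rw [Scheme.Opens.ι_image_top])).op).hom
  rw [Scheme.Opens.ι_appTop]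
  rw [← CommRingCat.comp_apply, ← Functor.map_comp] at h2
  exact h2

theorem comp_toAff_mulVec {T T' : Scheme.{u}} (g : T' ⟶ T) (t : T ⟶ Spec (CommRingCat.of k))
    (v : Ix.{u} m → Γ(T, ⊤)) (Q : Matrix (Ix.{u} m) (Ix.{u} m) Γ(T, ⊤)) :
    g ≫ toAff t (Q.mulVec v) =
      toAff (g ≫ t) ((Q.map g.appTop.hom).mulVec (fun i => g.appTop (v i))) := by
  rw [comp_toAff]
  congr 1
  funext i
  exact RingHom.map_mulVec g.appTop.hom Q v i

theorem Eg.OD_le : Eg.OD k m ≤ ((Eg.GL k m).ι ≫ Eg.act k m) ⁻¹ᵁ O0 k m := by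
  intro x hx
  rw [Eg.act, comp_toAff_mulVec, preimage_mulVec_eq]
  · rw [mem_preimage_toAff_iff]
    have h1 : x ∈ ((Eg.GL k m).ι ≫ Eg.pr k m) ⁻¹ᵁ O0 k m := hx
    rw [mem_preimage_O0_iff] at h1
    exact h1
  · rw [← RingHom.mapMatrix_apply, ← RingHom.map_det]
    exact isUnit_ι_appTop (Eg.P k m).det

include hdim hn in
/-- The universal invariance. -/
theorem Eg.pull_act (κ : HS (ZMod n) (O0 k m) (2 * m)) :
    HS.pull (ZMod n) ((Eg.GL k m).ι ≫ Eg.act k m) Eg.OD_le (2 * m) κ =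
      HS.pull (ZMod n) ((Eg.GL k m).ι ≫ Eg.pr k m) (Eg.OD_le_pr k m) (2 * m) κ := by
  obtain ⟨l, hl⟩ := Eg.surjective_pull hdim n hn
    (HS.pull (ZMod n) ((Eg.GL k m).ι ≫ Eg.act k m) Eg.OD_le (2 * m) κ)
  have h0 : O0 k m ≤ Eg.one k m ⁻¹ᵁ Eg.OD k m := by
    have h1 : Eg.one k m ⁻¹ᵁ Eg.OD k m =
        (Eg.one k m ≫ (Eg.GL k m).ι ≫ Eg.pr k m) ⁻¹ᵁ O0 k m := rfl
    rw [h1, Eg.one_pr]
    exact le_rfl
  have h2 : l = κ := by
    have h3 := congrArg (HS.pull (ZMod n) (Eg.one k m) h0 (2 * m)) hl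
    have hid : O0 k m ≤ 𝟙 (Aff k m) ⁻¹ᵁ O0 k m := le_rfl
    have e1 := HS.pull_comp (ZMod n) (Eg.one k m) _ (𝟙 _) Eg.one_pr h0
      (Eg.OD_le_pr k m) hid (2 * m) l
    have e2 := HS.pull_comp (ZMod n) (Eg.one k m) _ (𝟙 _) Eg.one_act h0 Eg.OD_le hid (2 * m) κ
    have e3 := (e1.symm.trans h3).trans e2
    rwa [HS.pull_id, HS.pull_id] at e3
  rw [← hl, h2]

include hdim in
/-- Invariance of the pull-back of `κ` under invertible matrices. -/
theorem HS.pull_mulVec_of {T : Scheme.{u}} (t : T ⟶ Spec (CommRingCat.of k))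
    (v : Ix.{u} m → Γ(T, ⊤)) (Q : Matrix (Ix.{u} m) (Ix.{u} m) Γ(T, ⊤)) (hQ : IsUnit Q.det)
    (hn : (n : k) ≠ 0) (κ : HS (ZMod n) (O0 k m) (2 * m)) {O' : T.Opens}
    (h : O' ≤ toAff t v ⁻¹ᵁ O0 k m) (h' : O' ≤ toAff t (Q.mulVec v) ⁻¹ᵁ O0 k m) :
    HS.pull (ZMod n) (toAff t (Q.mulVec v)) h' (2 * m) κ =
      HS.pull (ZMod n) (toAff t v) h (2 * m) κ := by
  have h1 : O' ≤ Eg.clsGL t v Q hQ ⁻¹ᵁ Eg.OD k m := by
    have h2 : Eg.clsGL t v Q hQ ⁻¹ᵁ Eg.OD k m =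
        (Eg.clsGL t v Q hQ ≫ (Eg.GL k m).ι ≫ Eg.pr k m) ⁻¹ᵁ O0 k m := rfl
    rw [h2, Eg.clsGL_ι_assoc, Eg.cls_pr]
    exact h
  have h3 := congrArg (HS.pull (ZMod n) (Eg.clsGL t v Q hQ) h1 (2 * m)) (Eg.pull_act hdim n hn κ)
  have e1 := HS.pull_comp (ZMod n) (Eg.clsGL t v Q hQ) _ (toAff t v)
      (by rw [Eg.clsGL_ι_assoc, Eg.cls_pr]) h1 (Eg.OD_le_pr k m) h (2 * m) κ
  have e2 := HS.pull_comp (ZMod n) (Eg.clsGL t v Q hQ) _ (toAff t (Q.mulVec v))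
      (by rw [Eg.clsGL_ι_assoc, Eg.cls_act]) h1 Eg.OD_le h' (2 * m) κ
  exact (e2.symm.trans h3).trans e1

end Main

section Dim

/-- The generic determinant. -/
def gdet (k : Type u) [Field k] (m : ℕ) : MvPolynomial (ULift.{u} (Fin (m * m))) k :=
  Matrix.det (fun i j : Ix.{u} m => MvPolynomial.X ⟨finProdFinEquiv (i.down, j.down)⟩)

theorem gdet_ne_zero (k : Type u) [Field k] (m : ℕ) : gdet k m ≠ 0 := by
  intro h
  have h1 := congrArg (MvPolynomial.eval (fun l : ULift.{u} (Fin (m * m)) =>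
    if (finProdFinEquiv.symm l.down).1 = (finProdFinEquiv.symm l.down).2 then (1 : k) else 0)) h
  rw [gdet, RingHom.map_det, map_zero] at h1
  have h2 : (MvPolynomial.eval (fun l : ULift.{u} (Fin (m * m)) =>
      if (finProdFinEquiv.symm l.down).1 = (finProdFinEquiv.symm l.down).2 then (1 : k)
      else 0)).mapMatrix (fun i j : Ix.{u} m =>
        (MvPolynomial.X ⟨finProdFinEquiv (i.down, j.down)⟩ :
          MvPolynomial (ULift.{u} (Fin (m * m))) k)) = 1 := by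
    ext i j
    rw [RingHom.mapMatrix_apply, Matrix.map_apply, MvPolynomial.eval_X, Equiv.symm_apply_apply,
      Matrix.one_apply]
    by_cases hij : i = j
    · simp [hij]
    · have : i.down ≠ j.down := fun h => hij (ULift.down_injective h)
      simp [hij, this]
  rw [h2, Matrix.det_one] at h1
  exact one_ne_zero h1

theorem Eg.hdim (x : Eg k m) (hx : x ∉ Eg.pr k m ⁻¹ᵁ O0 k m) (hx' : x ∉ Eg.GL k m) :
    ((m + 1 : ℕ) : WithBot ℕ∞) ≤ ringKrullDim ((Eg k m).presheaf.stalk x) := by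
  refine H677.Dim.succ_le_ringKrullDim_stalk x (fun i hi => ?_) (gdet k m) (gdet_ne_zero k m) ?_
  · apply hx
    exact (mem_O0_iff _).2 ⟨i, hi⟩
  · have h1 : MvPolynomial.eval₂Hom (H677.Dim.cst ((𝔸(ULift.{u} (Fin (m * m)); Aff k m) ↘
        Aff k m) ≫ Aff.str k m)) (AffineSpace.coord (Aff k m)) (gdet k m) = (Eg.P k m).det := by
      rw [gdet, RingHom.map_det]
      congr 1
      ext i j
      rw [RingHom.mapMatrix_apply, Matrix.map_apply]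
      exact MvPolynomial.eval₂_X _ _ _
    rw [h1]
    exact hx'

end Dim

/-- Invariance of the pull-back of `κ` under invertible matrices. -/
theorem HS.pull_mulVec {T : Scheme.{u}} (n : ℕ) (t : T ⟶ Spec (CommRingCat.of k))
    (v : Ix.{u} m → Γ(T, ⊤)) (Q : Matrix (Ix.{u} m) (Ix.{u} m) Γ(T, ⊤)) (hQ : IsUnit Q.det)
    (hn : (n : k) ≠ 0) (κ : HS (ZMod n) (O0 k m) (2 * m)) {O' : T.Opens}
    (h : O' ≤ toAff t v ⁻¹ᵁ O0 k m) (h' : O' ≤ toAff t (Q.mulVec v) ⁻¹ᵁ O0 k m) :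
    HS.pull (ZMod n) (toAff t (Q.mulVec v)) h' (2 * m) κ =
      HS.pull (ZMod n) (toAff t v) h (2 * m) κ :=
  HS.pull_mulVec_of Eg.hdim n t v Q hQ hn κ h h'

end

end Groth.Agent.Vancyc.H327
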