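import Groth.Agent.Vancyc.H327.Glue
import Groth.Agent.Vancyc.H327.GLInv
import Groth.Agent.Vancyc.H677.Dim3

/-!
# Fundamental classes (S4009)

`x : X ⟶ Spec k`, `i : Z ⟶ X` a closed immersion, locally given by `m` equations, `κ ∈ H^{2m}_0(𝔸^m, ℤ/n)`.

* `Pur O m n`: purity; `LCI x i O m n`: hypotheses on `i`; `IsCh x i j φ`: `φ : T ⟶ 𝔸^m` is a system of
  equations of `i` over `j : T ⟶ X`;
* `pull_eq_of_comap_eq`: independence of the equations;
* `fc h κ ∈ H^{2m}_Z(X, ℤ/n)`, `fc_chart`, `fc_unique`, `fc_main`, `fc_pull`.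
-/

set_option autoImplicit false
universe u
open CategoryTheory CategoryTheory.Limits AlgebraicGeometry Opposite Topology

namespace Groth.Agent.Vancyc.H327

open Groth.Agent.Sga4h.H13 (Aff origin origin_str)

noncomputable section

variable {k : Type u} [Field k] {m n : ℕ}

/-! ### Affine schemes -/

section Affine

variable {W : Scheme.{u}} [IsAffine W]

/-- The point of a prime ideal. -/
def ptOf (W : Scheme.{u}) [IsAffine W] (q : PrimeSpectrum Γ(W, ⊤)) : W :=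
  (isAffineOpen_top W).fromSpec q

theorem mem_basicOpen_ptOf (q : PrimeSpectrum Γ(W, ⊤)) (f : Γ(W, ⊤)) :
    ptOf W q ∈ W.basicOpen f ↔ f ∉ q.asIdeal := by
  have h1 := (isAffineOpen_top W).fromSpec_preimage_basicOpen f
  have h2 : ptOf W q ∈ W.basicOpen f ↔ q ∈ (isAffineOpen_top W).fromSpec ⁻¹ᵁ W.basicOpen f :=
    Iff.rfl
  rw [h2, h1]
  exact PrimeSpectrum.mem_basicOpen f q

theorem exists_ptOf (w : W) : ∃ q, ptOf W q = w :=
  ⟨_, (isAffineOpen_top W).fromSpec_primeIdealOf ⟨w, trivial⟩⟩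

theorem ringKrullDim_ptOf (q : PrimeSpectrum Γ(W, ⊤)) :
    ringKrullDim (W.presheaf.stalk (ptOf W q)) = q.asIdeal.height := by
  have h := (isAffineOpen_top W).isLocalization_stalk' q trivial
  exact @IsLocalization.AtPrime.ringKrullDim_eq_height _ _ q.asIdeal _
    (W.presheaf.stalk (ptOf W q)) _ (TopCat.Presheaf.algebra_section_stalk W.presheaf
      (⟨ptOf W q, trivial⟩ : (⊤ : W.Opens))) h

end Affine

/-! ### Purity -/

/-- Purity data. -/
structure Pur {X : Scheme.{u}} (O : X.Opens) (m n : ℕ) : Prop where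
  van : ∀ {U : Scheme.{u}} (j : U ⟶ X) [IsOpenImmersion j] (q : ℕ), q < 2 * m →
    Subsingleton (HS (ZMod n) (j ⁻¹ᵁ O) q)
  codim : ∀ y : X, y ∉ O → (m : WithBot ℕ∞) ≤ ringKrullDim (X.presheaf.stalk y)

theorem Pur.of_open {X U : Scheme.{u}} {O : X.Opens} (h : Pur O m n) (j : U ⟶ X)
    [IsOpenImmersion j] : Pur (j ⁻¹ᵁ O) m n where
  van a _ q hq := h.van (a ≫ j) q hq
  codim y hy := by
    rw [ringKrullDim_stalk_eq j y]
    exact h.codim _ hy

theorem Pur.of_open' {X U : Scheme.{u}} {O : X.Opens} (h : Pur O m n) (j : U ⟶ X)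
    [IsOpenImmersion j] {O' : U.Opens} (hO : O' = j ⁻¹ᵁ O) : Pur O' m n := by
  subst hO
  exact h.of_open j

/-- Purity from smoothness near the support. -/
theorem Pur.of_smooth {X U : Scheme.{u}} (O : X.Opens) (j : U ⟶ X) [IsOpenImmersion j]
    (f : U ⟶ Spec (CommRingCat.of k)) [Smooth f] (hU : ∀ x : X, x ∉ O → x ∈ Set.range j)
    (hn : (n : k) ≠ 0)
    (hY : ∀ x : X, x ∉ O → (m : WithBot ℕ∞) ≤ ringKrullDim (X.presheaf.stalk x)) : Pur O m n where
  van {V} a _ q hq := by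
    refine subsingleton_HS_of_open (pullback.snd j a) (pullback.fst j a ≫ f) (a ⁻¹ᵁ O)
      (fun x hx => ?_) m (fun x hx => ?_) n hn q hq
    · rw [IsOpenImmersion.range_pullbackSnd]
      exact hU _ hx
    · rw [ringKrullDim_stalk_eq a x]
      exact hY _ hx
  codim := hY

theorem Pur.van' {X : Scheme.{u}} {O : X.Opens} (h : Pur O m n) (U : X.Opens) (q' : ℕ)
    (hq' : q' + 1 = 2 * m) : Subsingleton (HS (ZMod n) (U.ι ⁻¹ᵁ O) q') :=
  h.van U.ι q' (by omega)

/-- Local equality implies equality, for open immersions. -/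
theorem Pur.eq_of_local {X : Scheme.{u}} [CompactSpace X] {O : X.Opens} (hP : Pur O m n)
    (z z' : HS (ZMod n) O (2 * m)) (h : ∀ y : X, y ∉ O → ∃ (U : Scheme.{u}) (j : U ⟶ X)
      (_ : IsOpenImmersion j), y ∈ Set.range j ∧
        HS.pull (ZMod n) j (O' := j ⁻¹ᵁ O) le_rfl (2 * m) z =
          HS.pull (ZMod n) j (O' := j ⁻¹ᵁ O) le_rfl (2 * m) z') : z = z' := by
  refine HS.eq_of_local (ZMod n) (fun U q' hq' => hP.van' U q' hq') z z' fun y hy => ?_
  obtain ⟨U, j, _, hyj, e⟩ := h y hy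
  refine ⟨j.opensRange, hyj, ?_⟩
  have h0 : j.opensRange.ι ⁻¹ᵁ O ≤ j.isoOpensRange.inv ⁻¹ᵁ (j ⁻¹ᵁ O) := by
    rw [← Scheme.Hom.comp_preimage, Scheme.Hom.isoOpensRange_inv_comp]
  have h1 := congrArg (HS.pull (ZMod n) j.isoOpensRange.inv h0 (2 * m)) e
  rwa [HS.pull_comp _ _ _ _ (Scheme.Hom.isoOpensRange_inv_comp j) h0 _ le_rfl,
    HS.pull_comp _ _ _ _ (Scheme.Hom.isoOpensRange_inv_comp j) h0 _ le_rfl] at h1

/-! ### Independence of the equations -/

theorem coe_O0_eq_support (k : Type u) [Field k] (m : ℕ) :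
    (O0 k m : Set (Aff k m)) = ((origin k m).ker.support : Set (Aff k m))ᶜ := by
  have h1 : IsClosedImmersion (origin k m) := by
    have h2 : IsClosedImmersion (origin k m ≫ Aff.str k m) := by
      rw [origin_str]
      infer_instance
    exact IsClosedImmersion.of_comp (origin k m) (Aff.str k m)
  rw [coe_O0, Scheme.Hom.support_ker, (origin k m).isClosedEmbedding.isClosed_range.closure_eq]

theorem preimage_O0_eq_of_comap_eq {T : Scheme.{u}} (φ ψ : T ⟶ Aff k m)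
    (hI : (origin k m).ker.comap φ = (origin k m).ker.comap ψ) :
    φ ⁻¹ᵁ O0 k m = ψ ⁻¹ᵁ O0 k m := by
  have h1 := congrArg (fun I : T.IdealSheafData => (I.support : Set T)) hI
  simp only [Scheme.IdealSheafData.support_comap] at h1
  ext y
  have h2 : φ y ∈ (O0 k m : Set (Aff k m)) ↔ ψ y ∈ (O0 k m : Set (Aff k m)) := by
    rw [coe_O0_eq_support, Set.mem_compl_iff, Set.mem_compl_iff]
    exact not_congr (Set.ext_iff.1 h1 y)
  exact h2

theorem exists_mulVec {A : Type u} [CommRing A] {ι : Type*} [Fintype ι] (a b : ι → A)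
    (h : Ideal.span (Set.range b) ≤ Ideal.span (Set.range a)) :
    ∃ P : Matrix ι ι A, b = P.mulVec a := by
  have h1 : ∀ i, ∃ c : ι → A, ∑ j, c j * a j = b i := fun i =>
    Ideal.mem_span_range_iff_exists_fun.1 (h (Ideal.subset_span ⟨i, rfl⟩))
  choose c hc using h1
  exact ⟨c, funext fun i => (hc i).symm⟩

theorem det_notMem_ulift {A : Type u} [CommRing A] [IsNoetherianRing A] {m : ℕ}
    (a b : Ix.{u} m → A) (P Q : Matrix (Ix.{u} m) (Ix.{u} m) A) (hP : b = P.mulVec a)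
    (hQ : a = Q.mulVec b) (p : Ideal A) [p.IsPrime] (hp : ∀ i, a i ∈ p)
    (hht : ∀ q : Ideal A, q.IsPrime → (∀ i, a i ∈ q) → (m : ℕ∞) ≤ q.height) : P.det ∉ p := by
  let e : Fin m ≃ Ix.{u} m := Equiv.ulift.symm
  have key : ∀ (R : Matrix (Ix.{u} m) (Ix.{u} m) A) (v : Ix.{u} m → A),
      (R.mulVec v) ∘ e = (R.submatrix e e).mulVec (v ∘ e) := by
    intro R v
    rw [Matrix.submatrix_mulVec_equiv]
    rfl
  have h1 := H677.Dim.det_notMem (a ∘ e) (b ∘ e) (P.submatrix e e) (Q.submatrix e e)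
    (by rw [← key, ← hP]) (by rw [← key, ← hQ]) p (fun i => hp _)
    (fun q hq h => hht q hq (fun i => by
      have := h (e.symm i)
      simpa using this))
  rwa [Matrix.det_submatrix_equiv_self] at h1

/-- **Independence of the equations.** -/
theorem pull_eq_of_comap_eq {T : Scheme.{u}} [IsLocallyNoetherian T] [CompactSpace T]
    (t : T ⟶ Spec (CommRingCat.of k)) (φ ψ : T ⟶ Aff k m) (hφ : φ ≫ Aff.str k m = t)
    (hψ : ψ ≫ Aff.str k m = t) (hI : (origin k m).ker.comap φ = (origin k m).ker.comap ψ)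
    {O : T.Opens} (hO : O ≤ φ ⁻¹ᵁ O0 k m) (hO' : O ≤ ψ ⁻¹ᵁ O0 k m)
    (hO'' : φ ⁻¹ᵁ O0 k m ≤ O) (hP : Pur O m n)
    (hn : (n : k) ≠ 0) (κ : HS (ZMod n) (O0 k m) (2 * m)) :
    HS.pull (ZMod n) φ hO (2 * m) κ = HS.pull (ZMod n) ψ hO' (2 * m) κ := by
  refine hP.eq_of_local _ _ fun y hy => ?_
  -- an affine neighbourhood of `y`
  obtain ⟨W, hW, hyW, -⟩ := exists_isAffineOpen_mem_and_subset
    (show y ∈ (⊤ : T.Opens) from trivial)
  have hWa : IsAffine (W : Scheme.{u}) := hW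
  have hWn : IsLocallyNoetherian (W : Scheme.{u}) := inferInstance
  obtain ⟨w, hw⟩ : ∃ w : (W : Scheme.{u}), W.ι w = y := by
    have h1 : y ∈ Set.range W.ι := by
      rw [Scheme.Opens.range_ι]
      exact hyW
    exact h1
  have hA : IsNoetherianRing Γ((W : Scheme.{u}), ⊤) :=
    IsLocallyNoetherian.component_noetherian ⟨⊤, isAffineOpen_top _⟩
  let a := vec (W.ι ≫ φ)
  let b := vec (W.ι ≫ ψ)
  have hab : Ideal.span (Set.range a) = Ideal.span (Set.range b) := by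
    rw [← ideal_comap_origin_top, ← ideal_comap_origin_top, Scheme.IdealSheafData.comap_comp,
      Scheme.IdealSheafData.comap_comp, hI]
  obtain ⟨P, hPab⟩ := exists_mulVec a b hab.ge
  obtain ⟨Q, hQab⟩ := exists_mulVec b a hab.le
  obtain ⟨p, hp⟩ := exists_ptOf w
  have hva : ∀ q : PrimeSpectrum Γ((W : Scheme.{u}), ⊤),
      (∀ i, a i ∈ q.asIdeal) ↔ W.ι (ptOf _ q) ∉ φ ⁻¹ᵁ O0 k m := by
    intro q
    have h1 : W.ι (ptOf _ q) ∉ φ ⁻¹ᵁ O0 k m ↔ ptOf _ q ∉ (W.ι ≫ φ) ⁻¹ᵁ O0 k m := Iff.rfl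
    rw [h1, mem_preimage_O0_iff]
    push Not
    exact forall_congr' fun i => by rw [mem_basicOpen_ptOf, not_not]
  have hdet : P.det ∉ p.asIdeal := by
    refine det_notMem_ulift a b P Q hPab hQab p.asIdeal ?_ ?_
    · rw [hva, hp, hw]
      exact fun h => hy (hO'' h)
    · intro q hq hq'
      have h1 := hP.codim (W.ι (ptOf _ ⟨q, hq⟩)) (fun h => (hva ⟨q, hq⟩).1 hq' (hO h))
      rw [← ringKrullDim_stalk_eq W.ι, ringKrullDim_ptOf] at h1
      exact_mod_cast h1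
  -- the open on which the determinant is invertible
  let D := (W : Scheme.{u}).basicOpen P.det
  have hwD : w ∈ D := by
    rw [← hp]
    exact (mem_basicOpen_ptOf p P.det).2 hdet
  obtain ⟨d, hd⟩ : ∃ d : (D : Scheme.{u}), D.ι d = w := by
    have h1 : w ∈ Set.range D.ι := by
      rw [Scheme.Opens.range_ι]
      exact hwD
    exact h1
  refine ⟨D, D.ι ≫ W.ι, inferInstance, ⟨d, by rw [Scheme.Hom.comp_apply, hd, hw]⟩, ?_⟩
  let tD : (D : Scheme.{u}) ⟶ Spec (CommRingCat.of k) := (D.ι ≫ W.ι) ≫ t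
  let aD : Ix.{u} m → Γ((D : Scheme.{u}), ⊤) := fun i => D.ι.appTop (a i)
  let PD := P.map D.ι.appTop.hom
  have e1 : (D.ι ≫ W.ι) ≫ φ = toAff tD aD := by
    refine hom_ext_vec ?_ fun i => ?_
    · rw [Category.assoc, hφ]
      exact (AffineSpace.homOfVector_over _ _).symm
    · rw [vec_toAff, Category.assoc, vec_comp]
  have e2 : (D.ι ≫ W.ι) ≫ ψ = toAff tD (PD.mulVec aD) := by
    refine hom_ext_vec ?_ fun i => ?_
    · rw [Category.assoc, hψ]
      exact (AffineSpace.homOfVector_over _ _).symm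
    · rw [vec_toAff, Category.assoc, vec_comp]
      have h1 : vec (W.ι ≫ ψ) i = P.mulVec a i := congrFun hPab i
      rw [h1]
      exact RingHom.map_mulVec D.ι.appTop.hom P a i
  have hPD : IsUnit PD.det := by
    have h1 : PD.det = D.ι.appTop.hom P.det := (RingHom.map_det D.ι.appTop.hom P).symm
    rw [h1]
    exact isUnit_ι_appTop P.det
  have f1 : (D.ι ≫ W.ι) ⁻¹ᵁ O ≤ toAff tD aD ⁻¹ᵁ O0 k m := by
    rw [← e1]
    exact fun z hz => hO hz
  have f2 : (D.ι ≫ W.ι) ⁻¹ᵁ O ≤ toAff tD (PD.mulVec aD) ⁻¹ᵁ O0 k m := by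
    rw [← e2]
    exact fun z hz => hO' hz
  rw [HS.pull_comp (ZMod n) (D.ι ≫ W.ι) φ _ e1 le_rfl hO f1,
    HS.pull_comp (ZMod n) (D.ι ≫ W.ι) ψ _ e2 le_rfl hO' f2]
  exact (HS.pull_mulVec n tD aD PD hPD hn κ f1 f2).symm

end

end Groth.Agent.Vancyc.H327
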