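import Groth.Agent.Vancyc.H327.FC2
import Groth.Agent.CalgB.RegDer
import Groth.Agent.Vancyc.H120.PairChart
import Groth.Agent.Vancyc.H120.AffChart

/-!
# Fundamental classes III (S4009): construction of the hypotheses

* `codim_of_flat`: the codimension from flat equations;
* `Pur.of_pair`: purity for smooth pairs over any base; `LCI.of_pair`;
* `LCI.of_open`: `i` only has to be good in a neighbourhood of `Z`;
* `LCI.of_pull`: equations pull back; `fc_pullback`: `fc_pull` for cartesian squares.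
-/

set_option autoImplicit false
universe u
open CategoryTheory CategoryTheory.Limits AlgebraicGeometry Opposite Topology

namespace Groth.Agent.Vancyc.H327

open Groth.Agent.Sga4h.H13 (Aff origin origin_str)

noncomputable section

variable {k : Type u} [Field k] {m n : ℕ}

/-- Dimension of local rings goes up along flat morphisms of locally noetherian schemes. -/
theorem ringKrullDim_stalk_le {X X' : Scheme.{u}} [IsLocallyNoetherian X] [IsLocallyNoetherian X']
    (i : X' ⟶ X) [Flat i] (x : X') :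
    ringKrullDim (X.presheaf.stalk (i x)) ≤ ringKrullDim (X'.presheaf.stalk x) := by
  algebraize [(i.stalkMap x).hom]
  have : Module.Flat (X.presheaf.stalk (i x)) (X'.presheaf.stalk x) := Flat.stalkMap i x
  have : IsLocalHom (algebraMap (X.presheaf.stalk (i x)) (X'.presheaf.stalk x)) :=
    inferInstanceAs (IsLocalHom (i.stalkMap x).hom)
  exact Groth.Agent.CalgB.RegDer.ringKrullDim_le_of_flat

/-- The codimension from flat equations. -/
theorem codim_of_flat {X U : Scheme.{u}} [IsLocallyNoetherian X] (j : U ⟶ X) [IsOpenImmersion j]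
    (φ : U ⟶ Aff k m) [Flat φ] (v : U) (hv : v ∉ φ ⁻¹ᵁ O0 k m) :
    (m : WithBot ℕ∞) ≤ ringKrullDim (X.presheaf.stalk (j v)) := by
  have hU : IsLocallyNoetherian U := isLocallyNoetherian_of_isOpenImmersion j
  have hA : IsLocallyNoetherian (Aff k m) :=
    LocallyOfFiniteType.isLocallyNoetherian (Aff.str k m)
  rw [← ringKrullDim_stalk_eq j v]
  refine le_trans ?_ (ringKrullDim_stalk_le φ v)
  refine H677.Dim.le_ringKrullDim_stalk (φ v) fun i hi => hv ?_
  exact (mem_O0_iff _).2 ⟨i, hi⟩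

variable {X Z : Scheme.{u}} {x : X ⟶ Spec (CommRingCat.of k)} {i : Z ⟶ X} {O : X.Opens}

/-- The codimension from flat equations. -/
theorem codim_of_gen [IsLocallyNoetherian X] [IsClosedImmersion i]
    (hO : (O : Set X) = (Set.range i)ᶜ)
    (hgen : ∀ y : X, y ∉ O → ∃ (U : X.Opens) (φ : (U : Scheme.{u}) ⟶ Aff k m), y ∈ U ∧
      φ ≫ Aff.str k m = U.ι ≫ x ∧ (origin k m).ker.comap φ = i.ker.comap U.ι ∧ Flat φ)
    (y : X) (hy : y ∉ O) : (m : WithBot ℕ∞) ≤ ringKrullDim (X.presheaf.stalk y) := by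
  obtain ⟨U, φ, hyU, h1, h2, h3⟩ := hgen y hy
  obtain ⟨v, rfl⟩ : ∃ v : (U : Scheme.{u}), U.ι v = y := by
    have h4 : y ∈ Set.range U.ι := by
      rw [Scheme.Opens.range_ι]
      exact hyU
    exact h4
  have h5 : IsCh x i U.ι φ := ⟨h1, h2⟩
  refine codim_of_flat U.ι φ v fun h => hy ?_
  rw [h5.preimage hO] at h
  exact h

/-- Purity for smooth pairs over any base. -/
theorem Pur.of_pair {S : Scheme.{u}} (f : X ⟶ S) (i : Z ⟶ X) [IsClosedImmersion i]
    (r m : ℕ) [SmoothOfRelativeDimension (r + m) f] [SmoothOfRelativeDimension r (i ≫ f)]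
    (hO : (O : Set X) = (Set.range i)ᶜ) (hn0 : n ≠ 0) (hn : IsUnit (n : Γ(X, ⊤)))
    (hd : ∀ y : X, y ∉ O → (m : WithBot ℕ∞) ≤ ringKrullDim (X.presheaf.stalk y)) : Pur O m n where
  van {U} j _ q hq := by
    have h1 : SmoothOfRelativeDimension (r + m) (j ≫ f) := by
      have h1' : SmoothOfRelativeDimension (0 + (r + m)) (j ≫ f) := inferInstance
      rwa [zero_add] at h1'
    have h2 : SmoothOfRelativeDimension r (pullback.snd i j ≫ (j ≫ f)) := by
      rw [← pullback.condition_assoc]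
      have h2' : SmoothOfRelativeDimension (0 + r) (pullback.fst i j ≫ (i ≫ f)) := inferInstance
      rwa [zero_add] at h2'
    refine subsingleton_HS_pair (j ≫ f) (pullback.snd i j) r m (j ⁻¹ᵁ O) ?_ n hn0 ?_ q hq
    · ext y
      have h3 : y ∈ Set.range (pullback.snd i j) ↔ j y ∈ Set.range i := by
        rw [Scheme.Pullback.range_snd]
        rfl
      have h4 : y ∈ ((j ⁻¹ᵁ O : U.Opens) : Set U) ↔ j y ∈ (O : Set X) := Iff.rfl
      rw [h4, hO, Set.mem_compl_iff, Set.mem_compl_iff, h3]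
    · have h5 := hn.map j.appTop.hom
      rwa [map_natCast] at h5
  codim := hd

/-- Smooth pairs over any base over `k`. -/
theorem LCI.of_pair {S : Scheme.{u}} [IsLocallyNoetherian X] (x : X ⟶ Spec (CommRingCat.of k))
    (f : X ⟶ S) (s : S ⟶ Spec (CommRingCat.of k)) (hs : f ≫ s = x)
    (i : Z ⟶ X) [IsClosedImmersion i] (r m : ℕ) [SmoothOfRelativeDimension (r + m) f]
    [SmoothOfRelativeDimension r (i ≫ f)] (hn : (n : k) ≠ 0)
    (hO : (O : Set X) = (Set.range i)ᶜ) : LCI x i O m n := by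
  have hgen : ∀ y : X, y ∉ O → ∃ (U : X.Opens) (φ : (U : Scheme.{u}) ⟶ Aff k m), y ∈ U ∧
      φ ≫ Aff.str k m = U.ι ≫ x ∧ (origin k m).ker.comap φ = i.ker.comap U.ι ∧ Flat φ := by
    intro y hy
    have h1 : y ∈ Set.range i := by
      by_contra h
      apply hy
      change y ∈ (O : Set X)
      rw [hO]
      exact h
    obtain ⟨z, rfl⟩ := h1
    obtain ⟨U, φ, -, h2, h3, h4, h5⟩ := H120.PairChart.exists_chart x f s hs i r m z
    exact ⟨U, φ, h2, h3, h4, h5⟩
  refine LCI.of_pur (Pur.of_pair f i r m hO ?_ (isUnit_natCast x n hn) (codim_of_gen hO hgen)) hO hn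
    (fun y hy => ?_)
  · rintro rfl
    exact hn Nat.cast_zero
  · obtain ⟨U, φ, h1, h2, h3, -⟩ := hgen y hy
    exact ⟨U, φ, h1, h2, h3⟩

/-- Flat equations and smoothness near `Z`. -/
theorem LCI.of_flat [IsLocallyNoetherian X] [IsClosedImmersion i] {U₀ : Scheme.{u}} (j : U₀ ⟶ X)
    [IsOpenImmersion j] [Smooth (j ≫ x)] (hj : Set.range i ⊆ Set.range j) (hn : (n : k) ≠ 0)
    (hO : (O : Set X) = (Set.range i)ᶜ)
    (hgen : ∀ y : X, y ∉ O → ∃ (U : X.Opens) (φ : (U : Scheme.{u}) ⟶ Aff k m), y ∈ U ∧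
      φ ≫ Aff.str k m = U.ι ≫ x ∧ (origin k m).ker.comap φ = i.ker.comap U.ι ∧ Flat φ) :
    LCI x i O m n := by
  refine LCI.of_pur (Pur.of_smooth O j (j ≫ x) (fun y hy => hj ?_) hn (codim_of_gen hO hgen)) hO hn
    (fun y hy => ?_)
  · by_contra h
    apply hy
    change y ∈ (O : Set X)
    rw [hO]
    exact h
  · obtain ⟨U, φ, h1, h2, h3, -⟩ := hgen y hy
    exact ⟨U, φ, h1, h2, h3⟩

/-- Only a neighbourhood of `Z` matters. -/
theorem LCI.of_open {X₀ : Scheme.{u}} (h : X₀ ⟶ X) [IsOpenImmersion h] (i₀ : Z ⟶ X₀)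
    [IsClosedImmersion (i₀ ≫ h)] {O₀ : X₀.Opens} (L : LCI (h ≫ x) i₀ O₀ m n)
    (hO : (O : Set X) = (Set.range (i₀ ≫ h))ᶜ) : LCI x (i₀ ≫ h) O m n := by
  have hy0 : ∀ y : X, y ∉ O → ∃ y₀ : X₀, h y₀ = y ∧ y₀ ∉ O₀ := by
    intro y hy
    have h1 : y ∈ Set.range (i₀ ≫ h) := by
      by_contra h1
      apply hy
      change y ∈ (O : Set X)
      rw [hO]
      exact h1
    obtain ⟨z, rfl⟩ := h1
    refine ⟨i₀ z, rfl, fun h2 => ?_⟩
    have h3 : i₀ z ∈ (O₀ : Set X₀) := h2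
    rw [L.compl] at h3
    exact h3 ⟨z, rfl⟩
  have hpre : h ⁻¹ᵁ O = O₀ := by
    ext y
    have h1 : y ∈ ((h ⁻¹ᵁ O : X₀.Opens) : Set X₀) ↔ h y ∈ (O : Set X) := Iff.rfl
    rw [h1, hO, L.compl, Set.mem_compl_iff, Set.mem_compl_iff]
    refine not_congr ⟨?_, ?_⟩
    · rintro ⟨z, hz⟩
      refine ⟨z, h.isOpenEmbedding.injective ?_⟩
      exact hz
    · rintro ⟨z, rfl⟩
      exact ⟨z, rfl⟩
  have hker : i₀.ker = (i₀ ≫ h).ker.comap h := by
    have hsq : IsPullback i₀ (𝟙 Z) h (i₀ ≫ h) := by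
      refine ⟨⟨by simp⟩, ⟨PullbackCone.IsLimit.mk _ (fun s => s.snd) (fun s => ?_) (fun s => by simp)
        (fun s t ht1 ht2 => by simpa using ht2)⟩⟩
      rw [← cancel_mono h, Category.assoc]
      exact s.condition.symm
    exact H120.AffChart.ker_of_isPullback hsq
  refine ⟨hO, ?_, ?_, ?_, L.hn⟩
  · intro U j _ q hq
    have h1 : Subsingleton (HS (ZMod n) (pullback.fst j h ⁻¹ᵁ (j ⁻¹ᵁ O)) q) := by
      have h2 : pullback.fst j h ⁻¹ᵁ (j ⁻¹ᵁ O) = pullback.snd j h ⁻¹ᵁ O₀ := by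
        rw [← hpre, ← Scheme.Hom.comp_preimage, ← Scheme.Hom.comp_preimage, pullback.condition]
      rw [h2]
      exact L.van (pullback.snd j h) q hq
    refine (HS.pull_bijective_of_open (ZMod n) (pullback.fst j h) (O := j ⁻¹ᵁ O) rfl (fun u hu => ?_)
      q).1.subsingleton
    obtain ⟨y₀, h3, -⟩ := hy0 (j u) hu
    have h4 : Set.range (pullback.fst j h) = j ⁻¹' Set.range h := by
      rw [Scheme.Pullback.range_fst]
    rw [h4]
    exact ⟨y₀, h3⟩
  · intro y hy
    obtain ⟨y₀, rfl, h1⟩ := hy0 y hy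
    rw [← ringKrullDim_stalk_eq h y₀]
    exact L.codim y₀ h1
  · intro y hy
    obtain ⟨y₀, rfl, h1⟩ := hy0 y hy
    obtain ⟨U₀, φ, h2, h3, h4⟩ := L.gen y₀ h1
    have e1 : (h.isoImage U₀).inv ≫ U₀.ι ≫ h = (h ''ᵁ U₀).ι := by
      rw [← Scheme.Hom.isoImage_hom_ι, Iso.inv_hom_id_assoc]
    refine ⟨h ''ᵁ U₀, (h.isoImage U₀).inv ≫ φ, ⟨y₀, h2, rfl⟩, ?_, ?_⟩
    · rw [Category.assoc, h3, ← e1]
      simp only [Category.assoc]
    · rw [Scheme.IdealSheafData.comap_comp, h4, hker, ← Scheme.IdealSheafData.comap_comp,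
        ← Scheme.IdealSheafData.comap_comp, Category.assoc, e1]

/-- Equations pull back. -/
theorem LCI.of_pull (L : LCI x i O m n) {X' Z' : Scheme.{u}} {x' : X' ⟶ Spec (CommRingCat.of k)}
    {i' : Z' ⟶ X'} [IsClosedImmersion i] [IsClosedImmersion i'] {O' : X'.Opens} (g : X' ⟶ X)
    (hg : g ≫ x = x') (hi : i.ker.comap g = i'.ker) (hP : Pur O' m n)
    (hO' : (O' : Set X') = (Set.range i')ᶜ) : LCI x' i' O' m n := by
  refine LCI.of_pur hP hO' L.hn fun y hy => ?_
  have h1 : g y ∉ O := by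
    intro h
    apply hy
    have h2 := congrArg (fun I : X'.IdealSheafData => (I.support : Set X')) hi
    simp only [Scheme.IdealSheafData.support_comap] at h2
    have h3 : (i'.ker.support : Set X') = Set.range i' := by
      rw [Scheme.Hom.support_ker, i'.isClosedEmbedding.isClosed_range.closure_eq]
    have h4 : (i.ker.support : Set X) = Set.range i := by
      rw [Scheme.Hom.support_ker, i.isClosedEmbedding.isClosed_range.closure_eq]
    change y ∈ (O' : Set X')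
    rw [hO', ← h3, ← h2]
    intro h5
    have h6 : g y ∈ (i.ker.support : Set X) := h5
    rw [h4] at h6
    have h7 : g y ∈ (O : Set X) := h
    rw [L.compl] at h7
    exact h7 h6
  obtain ⟨U, φ, h2, h3, h4⟩ := L.gen (g y) h1
  refine ⟨g ⁻¹ᵁ U, (g ∣_ U) ≫ φ, h2, ?_, ?_⟩
  · rw [Category.assoc, h3, ← hg, morphismRestrict_ι_assoc]
  · rw [Scheme.IdealSheafData.comap_comp, h4, ← Scheme.IdealSheafData.comap_comp,
      morphismRestrict_ι, Scheme.IdealSheafData.comap_comp, hi]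

/-- Equations from generators of the ideal on an affine open. -/
theorem gen_of_span (x : X ⟶ Spec (CommRingCat.of k)) (i : Z ⟶ X) (U : X.affineOpens)
    (v : Ix.{u} m → Γ(X, U.1)) (hv : i.ker.ideal U = Ideal.span (Set.range v)) :
    ∃ φ : (U.1 : Scheme.{u}) ⟶ Aff k m, φ ≫ Aff.str k m = U.1.ι ≫ x ∧
      (origin k m).ker.comap φ = i.ker.comap U.1.ι ∧
      ∀ a, vec φ a = U.1.topIso.inv (v a) := by
  have hU : IsAffine (U.1 : Scheme.{u}) := U.2
  refine ⟨toAff (U.1.ι ≫ x) (fun a => U.1.topIso.inv (v a)),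
    AffineSpace.homOfVector_over _ _, ?_, fun a => congrFun (vec_toAff _ _) a⟩
  apply Scheme.IdealSheafData.ext_of_isAffine
  rw [ideal_comap_origin_top, vec_toAff, Scheme.IdealSheafData.ideal_comap_of_isOpenImmersion]
  have h1 : i.ker.ideal ⟨U.1.ι ''ᵁ ⊤, (isAffineOpen_top _).image_of_isOpenImmersion U.1.ι⟩ =
      (i.ker.ideal U).map (X.presheaf.map (homOfLE U.1.ι_image_top.le).op).hom :=
    (i.ker.map_ideal (U := ⟨U.1.ι ''ᵁ ⊤, (isAffineOpen_top _).image_of_isOpenImmersion U.1.ι⟩)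
      (V := U) U.1.ι_image_top.le).symm
  rw [h1, hv, Ideal.map_span, ← Set.range_comp, Scheme.Opens.ι_appIso]
  rfl

/-- `fc_pull` for cartesian squares. -/
theorem fc_pullback [IsLocallyNoetherian X] [CompactSpace X] [IsClosedImmersion i]
    (h : LCI x i O m n) (κ : HS (ZMod n) (O0 k m) (2 * m)) {X' Z' : Scheme.{u}}
    [IsLocallyNoetherian X'] [CompactSpace X'] {x' : X' ⟶ Spec (CommRingCat.of k)} {i' : Z' ⟶ X'}
    [IsClosedImmersion i'] {O' : X'.Opens} (h' : LCI x' i' O' m n) {g' : Z' ⟶ Z} {g : X' ⟶ X}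
    (hg : g ≫ x = x') (w : IsPullback i' g' g i) (hO' : O' ≤ g ⁻¹ᵁ O) :
    HS.pull (ZMod n) g hO' (2 * m) (fc h κ) = fc h' κ :=
  fc_pull h κ h' g hg (H120.AffChart.ker_of_isPullback w).symm hO'

end

end Groth.Agent.Vancyc.H327
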