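import Groth.Agent.Vancyc.H327.Supp4

/-!
# Étale cohomology with supports V (S4009): gluing over noetherian schemes

`X` noetherian, `O` open, `Z = X - O`; assume `H^{q-1}_{Z ∩ U}(U, M) = 0` for all `U` open in `X`.

* `HS.eq_zero_of_local`: a class in `H^q_Z(X, M)` vanishing near the points of `Z` vanishes;
* `HS.existsUnique_glue`: gluing of classes in `H^q_{Z ∩ U}(U, M)`.
-/

set_option autoImplicit false
universe u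
open CategoryTheory CategoryTheory.Limits AlgebraicGeometry Opposite Topology

namespace Groth.Agent.Vancyc.H327

noncomputable section

variable {X : Scheme.{u}} (M : Type) [AddCommGroup M]

theorem range_homOfLE {U V : X.Opens} (h : U ≤ V) :
    Set.range (X.homOfLE h) = (V.ι ⁻¹ᵁ U : Set V) := by
  ext y
  constructor
  · rintro ⟨z, rfl⟩
    change V.ι (X.homOfLE h z) ∈ U
    rw [← Scheme.Hom.comp_apply, Scheme.homOfLE_ι]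
    have := Set.mem_range_self (f := U.ι) z
    rw [Scheme.Opens.range_ι] at this
    exact this
  · intro hy
    have h1 : V.ι y ∈ Set.range U.ι := by
      rw [Scheme.Opens.range_ι]
      exact hy
    obtain ⟨z, hz⟩ := h1
    refine ⟨z, V.ι.isOpenEmbedding.injective ?_⟩
    rw [← Scheme.Hom.comp_apply, Scheme.homOfLE_ι, hz]

/-- Restriction of classes with supports to a smaller open. -/
abbrev HS.rho {O U V : X.Opens} (h : U ≤ V) (q : ℕ) :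
    HS M (V.ι ⁻¹ᵁ O) q →+ HS M (U.ι ⁻¹ᵁ O) q :=
  HS.pull M (X.homOfLE h) (O' := U.ι ⁻¹ᵁ O) (O := V.ι ⁻¹ᵁ O) (by
    rw [← Scheme.Hom.comp_preimage, Scheme.homOfLE_ι]) q

theorem HS.rho_rho {O U V W : X.Opens} (h : U ≤ V) (h' : V ≤ W) (q : ℕ)
    (c : HS M (W.ι ⁻¹ᵁ O) q) : HS.rho M h q (HS.rho M h' q c) = HS.rho M (h.trans h') q c :=
  HS.pull_comp M _ _ _ (Scheme.homOfLE_homOfLE _ h h') _ _ _ q c

theorem HS.rho_pull_ι {O U V : X.Opens} (h : U ≤ V) (q : ℕ) (c : HS M O q) :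
    HS.rho M h q (HS.pull M V.ι (O' := V.ι ⁻¹ᵁ O) le_rfl q c) =
      HS.pull M U.ι (O' := U.ι ⁻¹ᵁ O) le_rfl q c :=
  HS.pull_comp M _ _ _ (Scheme.homOfLE_ι _ h) _ _ _ q c

/-- No class over an open contained in `O`. -/
theorem HS.subsingleton_of_le {O U : X.Opens} (h : U ≤ O) (q : ℕ) :
    Subsingleton (HS M (U.ι ⁻¹ᵁ O) q) :=
  HS.subsingleton_of_top M (U.ι ⁻¹ᵁ O) (fun y => by
    have h1 := Set.mem_range_self (f := U.ι) y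
    rw [Scheme.Opens.range_ι] at h1
    exact h h1) q

section Union

variable {O W₁ W₂ W : X.Opens} (hW : W₁ ⊔ W₂ = W)

include hW in
theorem h₁ : W₁ ≤ W := hW ▸ le_sup_left

include hW in
theorem h₂ : W₂ ≤ W := hW ▸ le_sup_right

include hW in
theorem cover : Set.range (X.homOfLE (h₁ hW)) ∪ Set.range (X.homOfLE (h₂ hW)) = Set.univ := by
  rw [range_homOfLE, range_homOfLE]
  refine Set.eq_univ_of_forall fun y => ?_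
  have h1 : W.ι y ∈ W := by
    have := Set.mem_range_self (f := W.ι) y
    rw [Scheme.Opens.range_ι] at this
    exact this
  have h2 : W.ι y ∈ W₁ ⊔ W₂ := hW ▸ h1
  exact h2

include hW in
theorem inter : Set.range (X.homOfLE (inf_le_left.trans (h₁ hW) : W₁ ⊓ W₂ ≤ W)) =
    Set.range (X.homOfLE (h₁ hW)) ∩ Set.range (X.homOfLE (h₂ hW)) := by
  rw [range_homOfLE, range_homOfLE, range_homOfLE]
  rfl

theorem HS.exists_union (q : ℕ) (c₁ : HS M (W₁.ι ⁻¹ᵁ O) q) (c₂ : HS M (W₂.ι ⁻¹ᵁ O) q)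
    (h : HS.rho M (inf_le_left : W₁ ⊓ W₂ ≤ W₁) q c₁ = HS.rho M (inf_le_right : W₁ ⊓ W₂ ≤ W₂) q c₂) :
    ∃ c : HS M (W.ι ⁻¹ᵁ O) q, HS.rho M (h₁ hW) q c = c₁ ∧ HS.rho M (h₂ hW) q c = c₂ := by
  have e₁ : W₁.ι ⁻¹ᵁ O = X.homOfLE (h₁ hW) ⁻¹ᵁ (W.ι ⁻¹ᵁ O) := by
    rw [← Scheme.Hom.comp_preimage, Scheme.homOfLE_ι]
  have e₂ : W₂.ι ⁻¹ᵁ O = X.homOfLE (h₂ hW) ⁻¹ᵁ (W.ι ⁻¹ᵁ O) := by
    rw [← Scheme.Hom.comp_preimage, Scheme.homOfLE_ι]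
  have e₃ : (W₁ ⊓ W₂).ι ⁻¹ᵁ O =
      X.homOfLE (inf_le_left.trans (h₁ hW) : W₁ ⊓ W₂ ≤ W) ⁻¹ᵁ (W.ι ⁻¹ᵁ O) := by
    rw [← Scheme.Hom.comp_preimage, Scheme.homOfLE_ι]
  exact HS.exists_mv M (X.homOfLE (h₁ hW)) (X.homOfLE (h₂ hW))
    (X.homOfLE (inf_le_left.trans (h₁ hW) : W₁ ⊓ W₂ ≤ W))
    (X.homOfLE (inf_le_left : W₁ ⊓ W₂ ≤ W₁)) (X.homOfLE (inf_le_right : W₁ ⊓ W₂ ≤ W₂))
    (Scheme.homOfLE_homOfLE _ _ _) (Scheme.homOfLE_homOfLE _ _ _) (inter hW) (cover hW)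
    e₁ e₂ e₃ _ _ q c₁ c₂ h

theorem HS.eq_zero_union (q : ℕ)
    (h0 : ∀ q', q' + 1 = q → Subsingleton (HS M ((W₁ ⊓ W₂).ι ⁻¹ᵁ O) q'))
    (c : HS M (W.ι ⁻¹ᵁ O) q) (hc₁ : HS.rho M (h₁ hW) q c = 0) (hc₂ : HS.rho M (h₂ hW) q c = 0) :
    c = 0 := by
  have e₁ : W₁.ι ⁻¹ᵁ O = X.homOfLE (h₁ hW) ⁻¹ᵁ (W.ι ⁻¹ᵁ O) := by
    rw [← Scheme.Hom.comp_preimage, Scheme.homOfLE_ι]
  have e₂ : W₂.ι ⁻¹ᵁ O = X.homOfLE (h₂ hW) ⁻¹ᵁ (W.ι ⁻¹ᵁ O) := by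
    rw [← Scheme.Hom.comp_preimage, Scheme.homOfLE_ι]
  have e₃ : (W₁ ⊓ W₂).ι ⁻¹ᵁ O =
      X.homOfLE (inf_le_left.trans (h₁ hW) : W₁ ⊓ W₂ ≤ W) ⁻¹ᵁ (W.ι ⁻¹ᵁ O) := by
    rw [← Scheme.Hom.comp_preimage, Scheme.homOfLE_ι]
  have e₄ : (W₁ ⊓ W₂).ι ⁻¹ᵁ O ≤ X.homOfLE (inf_le_left : W₁ ⊓ W₂ ≤ W₁) ⁻¹ᵁ (W₁.ι ⁻¹ᵁ O) := by
    rw [← Scheme.Hom.comp_preimage, Scheme.homOfLE_ι]
  have e₅ : (W₁ ⊓ W₂).ι ⁻¹ᵁ O ≤ X.homOfLE (inf_le_right : W₁ ⊓ W₂ ≤ W₂) ⁻¹ᵁ (W₂.ι ⁻¹ᵁ O) := by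
    rw [← Scheme.Hom.comp_preimage, Scheme.homOfLE_ι]
  cases q with
  | zero =>
    exact HS.eq_zero_mv_zero M (X.homOfLE (h₁ hW)) (X.homOfLE (h₂ hW))
      (X.homOfLE (inf_le_left.trans (h₁ hW) : W₁ ⊓ W₂ ≤ W))
      (X.homOfLE (inf_le_left : W₁ ⊓ W₂ ≤ W₁)) (X.homOfLE (inf_le_right : W₁ ⊓ W₂ ≤ W₂))
      (Scheme.homOfLE_homOfLE _ _ _) (Scheme.homOfLE_homOfLE _ _ _) (inter hW) (cover hW)
      e₁ e₂ e₃ e₄ e₅ c hc₁ hc₂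
  | succ q =>
    exact HS.eq_zero_mv M (X.homOfLE (h₁ hW)) (X.homOfLE (h₂ hW))
      (X.homOfLE (inf_le_left.trans (h₁ hW) : W₁ ⊓ W₂ ≤ W))
      (X.homOfLE (inf_le_left : W₁ ⊓ W₂ ≤ W₁)) (X.homOfLE (inf_le_right : W₁ ⊓ W₂ ≤ W₂))
      (Scheme.homOfLE_homOfLE _ _ _) (Scheme.homOfLE_homOfLE _ _ _) (inter hW) (cover hW)
      e₁ e₂ e₃ e₄ e₅ q (h0 q rfl) c hc₁ hc₂

end Union

/-- Restriction to `⊤` is bijective. -/
theorem HS.pull_ι_top_bijective (O : X.Opens) (q : ℕ) :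
    Function.Bijective (HS.pull M (⊤ : X.Opens).ι (O' := (⊤ : X.Opens).ι ⁻¹ᵁ O) (O := O)
      le_rfl q) :=
  have : IsIso (⊤ : X.Opens).ι := inferInstanceAs (IsIso (Scheme.topIso X).hom)
  HS.pull_bijective_of_isIso M (⊤ : X.Opens).ι rfl q

variable {O : X.Opens} {q : ℕ}

/-- Local vanishing implies vanishing. -/
theorem HS.eq_zero_of_local [CompactSpace X]
    (hv : ∀ (U : X.Opens) (q' : ℕ), q' + 1 = q → Subsingleton (HS M (U.ι ⁻¹ᵁ O) q'))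
    (z : HS M O q) (h : ∀ y : X, y ∉ O → ∃ U : X.Opens, y ∈ U ∧
      HS.pull M U.ι (O' := U.ι ⁻¹ᵁ O) le_rfl q z = 0) : z = 0 := by
  have key : ∃ W : X.Opens, (Set.univ : Set X) ⊆ W ∧
      HS.pull M W.ι (O' := W.ι ⁻¹ᵁ O) le_rfl q z = 0 := by
    refine IsCompact.induction_on (isCompact_univ (X := X))
      (p := fun s => ∃ W : X.Opens, s ⊆ W ∧ HS.pull M W.ι (O' := W.ι ⁻¹ᵁ O) le_rfl q z = 0)
      ?_ ?_ ?_ ?_
    · refine ⟨⊥, Set.empty_subset _, ?_⟩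
      have := HS.subsingleton_of_le M (O := O) (U := ⊥) bot_le q
      exact Subsingleton.elim _ _
    · rintro s t hst ⟨W, hW, hz⟩
      exact ⟨W, hst.trans hW, hz⟩
    · rintro s t ⟨W₁, hW₁, hz₁⟩ ⟨W₂, hW₂, hz₂⟩
      refine ⟨W₁ ⊔ W₂, Set.union_subset_union hW₁ hW₂, ?_⟩
      refine HS.eq_zero_union M (rfl : W₁ ⊔ W₂ = W₁ ⊔ W₂) q (fun q' hq' => hv _ q' hq') _ ?_ ?_
      · rw [HS.rho_pull_ι]
        exact hz₁
      · rw [HS.rho_pull_ι]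
        exact hz₂
    · intro y _
      by_cases hy : y ∈ O
      · refine ⟨O, mem_nhdsWithin_of_mem_nhds (O.isOpen.mem_nhds hy), O, subset_rfl, ?_⟩
        have := HS.subsingleton_of_le M (O := O) (U := O) le_rfl q
        exact Subsingleton.elim _ _
      · obtain ⟨U, hyU, hU⟩ := h y hy
        exact ⟨U, mem_nhdsWithin_of_mem_nhds (U.isOpen.mem_nhds hyU), U, subset_rfl, hU⟩
  obtain ⟨W, hW, hz⟩ := key
  have hW' : W = ⊤ := by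
    ext y
    exact ⟨fun _ => trivial, fun _ => hW trivial⟩
  subst hW'
  exact (HS.pull_ι_top_bijective M O q).1 (hz.trans (map_zero _).symm)

/-- Local equality implies equality. -/
theorem HS.eq_of_local [CompactSpace X]
    (hv : ∀ (U : X.Opens) (q' : ℕ), q' + 1 = q → Subsingleton (HS M (U.ι ⁻¹ᵁ O) q'))
    (z z' : HS M O q) (h : ∀ y : X, y ∉ O → ∃ U : X.Opens, y ∈ U ∧
      HS.pull M U.ι (O' := U.ι ⁻¹ᵁ O) le_rfl q z =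
        HS.pull M U.ι (O' := U.ι ⁻¹ᵁ O) le_rfl q z') : z = z' := by
  rw [← sub_eq_zero]
  refine HS.eq_zero_of_local M hv _ fun y hy => ?_
  obtain ⟨U, hyU, hU⟩ := h y hy
  exact ⟨U, hyU, by rw [map_sub, hU, sub_self]⟩

/-- Gluing of classes with supports. -/
theorem HS.exists_glue [IsLocallyNoetherian X] [CompactSpace X]
    (hv : ∀ (U : X.Opens) (q' : ℕ), q' + 1 = q → Subsingleton (HS M (U.ι ⁻¹ᵁ O) q'))
    {I : Type*} (U : I → X.Opens) (s : ∀ a, HS M ((U a).ι ⁻¹ᵁ O) q)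
    (hU : ∀ y : X, y ∉ O → ∃ a, y ∈ U a)
    (hs : ∀ (a b : I) (y : X), y ∉ O → y ∈ U a → y ∈ U b →
      ∃ (V : X.Opens) (h : V ≤ U a) (h' : V ≤ U b), y ∈ V ∧
        HS.rho M h q (s a) = HS.rho M h' q (s b)) :
    ∃ c : HS M O q, ∀ a, HS.pull M (U a).ι (O' := (U a).ι ⁻¹ᵁ O) le_rfl q c = s a := by
  -- local vanishing on opens
  have hv' : ∀ (W : X.Opens) (z z' : HS M (W.ι ⁻¹ᵁ O) q), (∀ y : X, y ∉ O → y ∈ W →
      ∃ (V : X.Opens) (h : V ≤ W), y ∈ V ∧ HS.rho M h q z = HS.rho M h q z') → z = z' := by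
    intro W z z' h
    have hN : IsNoetherian X := {}
    have hW : CompactSpace (W : Scheme.{u}) :=
      isCompact_iff_compactSpace.1 (TopologicalSpace.NoetherianSpace.isCompact (W : Set X))
    refine HS.eq_of_local M (fun V q' hq' => ?_) z z' (fun y hy => ?_)
    · have h1 := hv (W.ι ''ᵁ V) q' hq'
      let e : (V : Scheme.{u}) ⟶ ((W.ι ''ᵁ V : X.Opens) : Scheme.{u}) := (W.ι.isoImage V).hom
      have h2 : e ≫ (W.ι ''ᵁ V).ι = V.ι ≫ W.ι := Scheme.Hom.isoImage_hom_ι _ _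
      have h3 : V.ι ⁻¹ᵁ (W.ι ⁻¹ᵁ O) = e ⁻¹ᵁ ((W.ι ''ᵁ V).ι ⁻¹ᵁ O) := by
        rw [← Scheme.Hom.comp_preimage, ← Scheme.Hom.comp_preimage, h2]
      exact (HS.pull_bijective_of_isIso M e h3 q').2.subsingleton
    · have hyW : W.ι y ∈ W := by
        have h1 := Set.mem_range_self (f := W.ι) y
        rwa [Scheme.Opens.range_ι] at h1
      obtain ⟨V, hVW, hyV, hV⟩ := h (W.ι y) hy hyW
      refine ⟨W.ι ⁻¹ᵁ V, hyV, ?_⟩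
      have h4 : Set.range ((W.ι ⁻¹ᵁ V).ι ≫ W.ι) ⊆ Set.range V.ι := by
        rw [Scheme.Opens.range_ι]
        rintro _ ⟨t, rfl⟩
        have h5 := Set.mem_range_self (f := (W.ι ⁻¹ᵁ V).ι) t
        rw [Scheme.Opens.range_ι] at h5
        exact h5
      let e : ((W.ι ⁻¹ᵁ V : (W : Scheme.{u}).Opens) : Scheme.{u}) ⟶ (V : Scheme.{u}) :=
        IsOpenImmersion.lift V.ι ((W.ι ⁻¹ᵁ V).ι ≫ W.ι) h4
      have h5 : e ≫ V.ι = (W.ι ⁻¹ᵁ V).ι ≫ W.ι := IsOpenImmersion.lift_fac _ _ _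
      have h6 : e ≫ X.homOfLE hVW = (W.ι ⁻¹ᵁ V).ι := by
        rw [← cancel_mono W.ι, Category.assoc, Scheme.homOfLE_ι, h5]
      have h7 : (W.ι ⁻¹ᵁ V).ι ⁻¹ᵁ (W.ι ⁻¹ᵁ O) ≤ e ⁻¹ᵁ (V.ι ⁻¹ᵁ O) := by
        rw [← Scheme.Hom.comp_preimage, ← Scheme.Hom.comp_preimage, h5]
      have h8 := congrArg (HS.pull M e h7 q) hV
      rwa [HS.pull_comp M e _ _ h6 h7 _ le_rfl, HS.pull_comp M e _ _ h6 h7 _ le_rfl] at h8
  have key : ∃ W : X.Opens, (Set.univ : Set X) ⊆ W ∧ ∃ c : HS M (W.ι ⁻¹ᵁ O) q,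
      ∀ (a : I) (y : X), y ∉ O → y ∈ W → y ∈ U a → ∃ (V : X.Opens) (h : V ≤ W) (h' : V ≤ U a),
        y ∈ V ∧ HS.rho M h q c = HS.rho M h' q (s a) := by
    refine IsCompact.induction_on (isCompact_univ (X := X))
      (p := fun t => ∃ W : X.Opens, t ⊆ W ∧ ∃ c : HS M (W.ι ⁻¹ᵁ O) q,
        ∀ (a : I) (y : X), y ∉ O → y ∈ W → y ∈ U a → ∃ (V : X.Opens) (h : V ≤ W) (h' : V ≤ U a),
        y ∈ V ∧ HS.rho M h q c = HS.rho M h' q (s a)) ?_ ?_ ?_ ?_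
    · exact ⟨⊥, Set.empty_subset _, 0, fun a y _ hy => hy.elim⟩
    · rintro t t' htt' ⟨W, hW, hc⟩
      exact ⟨W, htt'.trans hW, hc⟩
    · rintro t t' ⟨W₁, hW₁, c₁, hc₁⟩ ⟨W₂, hW₂, c₂, hc₂⟩
      refine ⟨W₁ ⊔ W₂, Set.union_subset_union hW₁ hW₂, ?_⟩
      have h12 : HS.rho M (inf_le_left : W₁ ⊓ W₂ ≤ W₁) q c₁ =
          HS.rho M (inf_le_right : W₁ ⊓ W₂ ≤ W₂) q c₂ := by
        refine hv' _ _ _ fun y hyO hy => ?_
        obtain ⟨a, ha⟩ := hU y hyO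
        obtain ⟨V₁, h1, h1', hy1, e1⟩ := hc₁ a y hyO hy.1 ha
        obtain ⟨V₂, h2, h2', hy2, e2⟩ := hc₂ a y hyO hy.2 ha
        refine ⟨V₁ ⊓ V₂, inf_le_inf h1 h2, ⟨hy1, hy2⟩, ?_⟩
        rw [HS.rho_rho, HS.rho_rho]
        have f1 := congrArg (HS.rho M (inf_le_left : V₁ ⊓ V₂ ≤ V₁) q) e1
        have f2 := congrArg (HS.rho M (inf_le_right : V₁ ⊓ V₂ ≤ V₂) q) e2
        rw [HS.rho_rho, HS.rho_rho] at f1 f2
        exact f1.trans f2.symm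
      obtain ⟨c, hc1, hc2⟩ := HS.exists_union M (rfl : W₁ ⊔ W₂ = W₁ ⊔ W₂) q c₁ c₂ h12
      refine ⟨c, fun a y hyO hy ha => ?_⟩
      rcases hy with hy | hy
      · obtain ⟨V, h, h', hyV, e⟩ := hc₁ a y hyO hy ha
        refine ⟨V, h.trans le_sup_left, h', hyV, ?_⟩
        rw [← e, ← hc1, HS.rho_rho]
      · obtain ⟨V, h, h', hyV, e⟩ := hc₂ a y hyO hy ha
        refine ⟨V, h.trans le_sup_right, h', hyV, ?_⟩
        rw [← e, ← hc2, HS.rho_rho]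
    · intro y _
      by_cases hy : y ∈ O
      · exact ⟨O, mem_nhdsWithin_of_mem_nhds (O.isOpen.mem_nhds hy), O, subset_rfl, 0,
          fun a y' h h' => (h h').elim⟩
      · obtain ⟨a, ha⟩ := hU y hy
        refine ⟨U a, mem_nhdsWithin_of_mem_nhds ((U a).isOpen.mem_nhds ha), U a, subset_rfl, s a,
          fun b y' h h' h'' => ?_⟩
        obtain ⟨V, hV, hV', hyV, e⟩ := hs a b y' h h' h''
        exact ⟨V, hV, hV', hyV, e⟩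
  obtain ⟨W, hW, c, hc⟩ := key
  have hW' : W = ⊤ := by
    ext y
    exact ⟨fun _ => trivial, fun _ => hW trivial⟩
  subst hW'
  obtain ⟨c', rfl⟩ := (HS.pull_ι_top_bijective M O q).2 c
  refine ⟨c', fun a => hv' _ _ _ fun y hy hya => ?_⟩
  obtain ⟨V, h, h', hyV, e⟩ := hc a y hy trivial hya
  refine ⟨V, h', hyV, ?_⟩
  rw [HS.rho_pull_ι] at e ⊢
  exact e

end

end Groth.Agent.Vancyc.H327
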