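import Groth.Agent.Vancyc.H327.FC3

/-!
# `LCI.mk_of_open` (S4009): the smart constructor in the form used by `H687`
-/

set_option autoImplicit false
universe u
open CategoryTheory CategoryTheory.Limits AlgebraicGeometry Opposite Topology

namespace Groth.Agent.Vancyc.H327

open Groth.Agent.Sga4h.H13 (Aff origin origin_str)

variable {k : Type u} [Field k]

/-- Flat charts and smoothness near `Z`. -/
theorem LCI.mk_of_open {X X₀ Z : Scheme.{u}} [IsLocallyNoetherian X]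
    (x : X ⟶ Spec (CommRingCat.of k)) (h : X₀ ⟶ X) [IsOpenImmersion h] [Smooth (h ≫ x)]
    (i₀ : Z ⟶ X₀) (i : Z ⟶ X) (hi : i₀ ≫ h = i) [IsClosedImmersion i] (O : X.Opens)
    (hO : (O : Set X) = (Set.range i)ᶜ) (m n : ℕ) (hn : (n : k) ≠ 0)
    (H : ∀ z : Z, ∃ (U : X.Opens) (Φ : (U : Scheme.{u}) ⟶ Aff k m), IsAffineOpen U ∧ i z ∈ U ∧
      Φ ≫ Aff.str k m = U.ι ≫ x ∧ (origin k m).ker.comap Φ = i.ker.comap U.ι ∧ Flat Φ) :
    LCI x i O m n := by
  refine LCI.of_flat h ?_ hn hO fun y hy => ?_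
  · rintro _ ⟨z, rfl⟩
    exact ⟨i₀ z, by rw [← hi, Scheme.Hom.comp_apply]⟩
  · have h1 : y ∈ Set.range i := by
      by_contra h
      apply hy
      change y ∈ (O : Set X)
      rw [hO]
      exact h
    obtain ⟨z, rfl⟩ := h1
    obtain ⟨U, Φ, -, h2, h3, h4, h5⟩ := H z
    exact ⟨U, Φ, h2, h3, h4, h5⟩

end Groth.Agent.Vancyc.H327
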