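import Groth.Agent.EtpbcB.HRel
import Groth.Agent.Etcore.MVbc
import Groth.Agent.Sga4B.DualShape

/-!
# Étale cohomology with supports (S4009): `H^q_Z(X, M) = Ext^q(ℤ_X / ℤ[O], M)`, `O = X - Z`

* `ZQ O = coker (ℤ[O] ⟶ ℤ_X)`, `ZQπ O : ℤ_X ⟶ ZQ O`;
* `bQ f h : ZQ O' ⟶ f⁻¹ ZQ O` for `O' ≤ f⁻¹ O`, an isomorphism if `O' = f⁻¹ O`; `bQ_comp`;
* `HS M O q = Ext^q (ZQ O) M_X`; `HS.pull f h`, `HS.pull_comp`, `HS.pull_id`;
* `HS.forget : HS M O q →+ H^q(X, M)`, `HS.forget_pull`.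
-/

set_option autoImplicit false
set_option backward.isDefEq.respectTransparency false
set_option backward.isDefEq.respectTransparency.types false
universe u
open CategoryTheory CategoryTheory.Limits AlgebraicGeometry Opposite Abelian
open scoped Groth.Agent.Etcore.EtInst
open Groth.Agent.Etcore.EtInst

namespace Groth.Agent.Vancyc.H327

open Groth.Agent.Etcore.MVShriek Groth.Agent.Etcore.MVbc Groth.Agent.Etcore.PullCoh
open Groth.Agent.Sga4B.ExtCmp Groth.Agent.EtpbcB.HRel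

noncomputable section

variable {X Y Z T : Scheme.{u}}

/-! ### The sheaf `ℤ_X / ℤ[O]` -/

/-- `coker (ℤ[O] ⟶ ℤ_X)`, `O` open in `X`. -/
def ZQ (O : X.Opens) : EtCoh.Ab X := cokernel (c O.ι (EtCoh.const X ℤ))

/-- The projection `ℤ_X ⟶ ZQ O`. -/
def ZQπ (O : X.Opens) : EtCoh.const X ℤ ⟶ ZQ O := cokernel.π (c O.ι (EtCoh.const X ℤ))

instance (O : X.Opens) : Epi (ZQπ O) := inferInstanceAs (Epi (coequalizer.π _ _))

theorem c_ZQπ (O : X.Opens) : c O.ι (EtCoh.const X ℤ) ≫ ZQπ O = 0 := cokernel.condition _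

/-- `0 ⟶ ℤ[O] ⟶ ℤ_X ⟶ ZQ O ⟶ 0`. -/
def ses (O : X.Opens) : ShortComplex (EtCoh.Ab X) :=
  ShortComplex.mk (c O.ι (EtCoh.const X ℤ)) (ZQπ O) (c_ZQπ O)

theorem ses_shortExact (O : X.Opens) : (ses O).ShortExact :=
  have _ : Mono (ses O).f := mono_c O.ι (EtCoh.const X ℤ)
  have _ : Epi (ses O).g := inferInstanceAs (Epi (ZQπ O))
  { exact := ShortComplex.exact_cokernel _ }

theorem comp_pull_ZQπ (f : X ⟶ Y) {O' : X.Opens} {O : Y.Opens} (h : O' ≤ f ⁻¹ᵁ O) :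
    c O'.ι (EtCoh.const X ℤ) ≫ (EtCore.pullConst f ℤ).inv ≫ (EtCoh.pull f).map (ZQπ O) = 0 := by
  have h1 : Set.range O'.ι ⊆ Set.range (f ⁻¹ᵁ O).ι := by
    rw [Scheme.Opens.range_ι, Scheme.Opens.range_ι]
    exact h
  rw [← ca_c (f ⁻¹ᵁ O).ι O'.ι h1 (EtCoh.const X ℤ), Category.assoc]
  have h2 := bmap_c f O.ι (f ⁻¹ᵁ O).ι (range_preimage_ι f O)
  rw [← Category.assoc (c (f ⁻¹ᵁ O).ι (EtCoh.const X ℤ)), ← h2, Category.assoc, ← Functor.map_comp,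
    c_ZQπ, Functor.map_zero, comp_zero, comp_zero]

/-- The canonical map `ZQ O' ⟶ f⁻¹ (ZQ O)` for `O' ≤ f⁻¹ O`. -/
def bQ (f : X ⟶ Y) {O' : X.Opens} {O : Y.Opens} (h : O' ≤ f ⁻¹ᵁ O) :
    ZQ O' ⟶ (EtCoh.pull f).obj (ZQ O) :=
  cokernel.desc _ ((EtCore.pullConst f ℤ).inv ≫ (EtCoh.pull f).map (ZQπ O)) (comp_pull_ZQπ f h)

@[reassoc]
theorem ZQπ_bQ (f : X ⟶ Y) {O' : X.Opens} {O : Y.Opens} (h : O' ≤ f ⁻¹ᵁ O) :
    ZQπ O' ≫ bQ f h = (EtCore.pullConst f ℤ).inv ≫ (EtCoh.pull f).map (ZQπ O) :=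
  cokernel.π_desc _ _ _

/-- `bQ` is an isomorphism if `O' = f⁻¹ O`. -/
theorem isIso_bQ (f : X ⟶ Y) {O' : X.Opens} {O : Y.Opens} (h : O' = f ⁻¹ᵁ O) :
    IsIso (bQ f h.le) := by
  subst h
  have h1 := bmap_c f O.ι (f ⁻¹ᵁ O).ι (range_preimage_ι f O)
  have h2 : IsIso (bmap f O.ι (f ⁻¹ᵁ O).ι (range_preimage_ι f O)) := inferInstance
  have h3 : PreservesColimit (parallelPair (c O.ι (EtCoh.const Y ℤ)) 0) (EtCoh.pull f) :=
    inferInstance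
  let e : ZQ (f ⁻¹ᵁ O) ≅ (EtCoh.pull f).obj (ZQ O) :=
    cokernel.mapIso _ _ (asIso (bmap f O.ι (f ⁻¹ᵁ O).ι (range_preimage_ι f O)))
      (EtCore.pullConst f ℤ).symm h1.symm ≪≫ (PreservesCokernel.iso (EtCoh.pull f)
        (c O.ι (EtCoh.const Y ℤ))).symm
  have h4 : e.hom = bQ f le_rfl := by
    rw [← cancel_epi (ZQπ (f ⁻¹ᵁ O)), ZQπ_bQ]
    change cokernel.π _ ≫ (cokernel.map _ _ (bmap f O.ι (f ⁻¹ᵁ O).ι (range_preimage_ι f O))
      (EtCore.pullConst f ℤ).inv h1.symm ≫ (PreservesCokernel.iso (EtCoh.pull f)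
        (c O.ι (EtCoh.const Y ℤ))).inv) = _
    rw [cokernel.π_desc_assoc, Category.assoc, PreservesCokernel.iso_inv, π_comp_cokernelComparison]
    rfl
  rw [← h4]
  infer_instance

/-- Transitivity of `bQ`. -/
theorem bQ_comp (f : X ⟶ Y) (g : Y ⟶ Z) (h : X ⟶ Z) (w : f ≫ g = h) {O'' : X.Opens}
    {O' : Y.Opens} {O : Z.Opens} (h1 : O'' ≤ f ⁻¹ᵁ O') (h2 : O' ≤ g ⁻¹ᵁ O) (h3 : O'' ≤ h ⁻¹ᵁ O) :
    bQ f h1 ≫ (EtCoh.pull f).map (bQ g h2) ≫ (theta f g h w).hom.app (ZQ O) = bQ h h3 := by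
  rw [← cancel_epi (ZQπ O''), ZQπ_bQ, ZQπ_bQ_assoc, ← Functor.map_comp_assoc, ZQπ_bQ,
    Functor.map_comp, Category.assoc]
  have h4 : (EtCoh.pull f).map ((EtCoh.pull g).map (ZQπ O)) ≫ (theta f g h w).hom.app (ZQ O) =
      (theta f g h w).hom.app (EtCoh.const Z ℤ) ≫ (EtCoh.pull h).map (ZQπ O) :=
    (theta f g h w).hom.naturality (ZQπ O)
  rw [h4, ← pc_comp f g h w, Category.assoc, Category.assoc]

theorem bQ_congr {f g : X ⟶ Y} (w : f = g) {O' : X.Opens} {O : Y.Opens} (h : O' ≤ f ⁻¹ᵁ O)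
    (h' : O' ≤ g ⁻¹ᵁ O) : bQ f h ≫ (eqToHom (by rw [w])) = bQ g h' := by
  subst w
  simp

/-! ### Cohomology with supports -/

variable (M : Type) [AddCommGroup M]

/-- `H^q_{X - O}(X, M)`. -/
abbrev HS (O : X.Opens) (q : ℕ) : Type (u + 1) := Ext.{u + 1} (ZQ O) (EtCoh.const X M) q

/-- `H^q(X, M)` with the short instances. -/
abbrev HC (X : Scheme.{u}) (q : ℕ) : Type (u + 1) := HH X (EtCoh.const X M) q

namespace HS

/-- Pull-back of classes with support along `f : X ⟶ Y`, `O' ≤ f⁻¹ O`. -/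
def pull (f : X ⟶ Y) {O' : X.Opens} {O : Y.Opens} (h : O' ≤ f ⁻¹ᵁ O) (q : ℕ) :
    HS M O q →+ HS M O' q :=
  ((Ext.mk₀ (EtCore.pullConst f M).hom).postcomp (ZQ O') (add_zero q)).comp
    (cmp (EtCoh.pull f) (bQ f h) (EtCoh.const Y M) q)

theorem pull_apply (f : X ⟶ Y) {O' : X.Opens} {O : Y.Opens} (h : O' ≤ f ⁻¹ᵁ O) (q : ℕ)
    (e : HS M O q) : pull M f h q e =
      (cmp (EtCoh.pull f) (bQ f h) (EtCoh.const Y M) q e).comp
        (Ext.mk₀ (EtCore.pullConst f M).hom) (add_zero q) := rfl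

/-- Pull-backs compose. -/
theorem pull_comp (f : X ⟶ Y) (g : Y ⟶ Z) (h : X ⟶ Z) (w : f ≫ g = h) {O'' : X.Opens}
    {O' : Y.Opens} {O : Z.Opens} (h1 : O'' ≤ f ⁻¹ᵁ O') (h2 : O' ≤ g ⁻¹ᵁ O) (h3 : O'' ≤ h ⁻¹ᵁ O)
    (q : ℕ) (e : HS M O q) : pull M f h1 q (pull M g h2 q e) = pull M h h3 q e := by
  rw [pull_apply, pull_apply, pull_apply]
  exact cmp_cmp_rel (EtCoh.pull g) (EtCoh.pull f) (EtCoh.pull h) (theta f g h w).hom _ _ _
    (bQ_comp f g h w h1 h2 h3) _ _ _ (pullConst_comp f g h w M) q e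

theorem pull_congr {f g : X ⟶ Y} (w : f = g) {O' : X.Opens} {O : Y.Opens} (h : O' ≤ f ⁻¹ᵁ O)
    (h' : O' ≤ g ⁻¹ᵁ O) (q : ℕ) (e : HS M O q) : pull M f h q e = pull M g h' q e := by
  subst w
  rfl

/-- Forgetting the support. -/
def forget (O : X.Opens) (q : ℕ) : HS M O q →+ HC M X q :=
  AddMonoidHom.mk' (fun e => (Ext.mk₀ (ZQπ O)).comp e (zero_add q)) fun _ _ => Ext.comp_add _ _ _ _

theorem forget_apply (O : X.Opens) (q : ℕ) (e : HS M O q) :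
    forget M O q e = (Ext.mk₀ (ZQπ O)).comp e (zero_add q) := rfl

end HS

/-- Pull-back on `H^q(-, M)` (equal to `DualShape.HpullConst`). -/
def hpull (f : X ⟶ Y) (q : ℕ) : HC M Y q →+ HC M X q :=
  ((Ext.mk₀ (EtCore.pullConst f M).hom).postcomp (EtCoh.const X ℤ) (add_zero q)).comp
    (cmp (EtCoh.pull f) (EtCore.pullConst f ℤ).inv (EtCoh.const Y M) q)

theorem hpull_apply (f : X ⟶ Y) (q : ℕ) (e : HC M Y q) :
    hpull M f q e = (cmp (EtCoh.pull f) (EtCore.pullConst f ℤ).inv (EtCoh.const Y M) q e).comp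
      (Ext.mk₀ (EtCore.pullConst f M).hom) (add_zero q) := rfl

theorem hpull_eq (f : X ⟶ Y) (q : ℕ) (e : HC M Y q) :
    hpull M f q e = Sga4B.DualShape.HpullConst f M q e := rfl

theorem hpull_comp (f : X ⟶ Y) (g : Y ⟶ Z) (h : X ⟶ Z) (w : f ≫ g = h) (q : ℕ) (e : HC M Z q) :
    hpull M f q (hpull M g q e) = hpull M h q e := by
  rw [hpull_apply, hpull_apply, hpull_apply]
  exact cmp_cmp_rel (EtCoh.pull g) (EtCoh.pull f) (EtCoh.pull h) (theta f g h w).hom _ _ _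
    (pc_comp f g h w) _ _ _ (pullConst_comp f g h w M) q e

theorem hpull_congr {f g : X ⟶ Y} (w : f = g) (q : ℕ) (e : HC M Y q) :
    hpull M f q e = hpull M g q e := by
  subst w
  rfl

theorem HS.forget_pull (f : X ⟶ Y) {O' : X.Opens} {O : Y.Opens} (h : O' ≤ f ⁻¹ᵁ O) (q : ℕ)
    (e : HS M O q) : HS.forget M O' q (HS.pull M f h q e) = hpull M f q (HS.forget M O q e) := by
  rw [HS.forget_apply, HS.pull_apply, hpull_apply, HS.forget_apply, cmp_apply, cmp_apply,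
    Ext.mapExactFunctor_comp, Ext.mapExactFunctor_mk₀, ← Ext.comp_assoc_of_third_deg_zero,
    ← Ext.comp_assoc_of_second_deg_zero, ← Ext.comp_assoc_of_second_deg_zero, Ext.mk₀_comp_mk₀,
    Ext.mk₀_comp_mk₀, ZQπ_bQ]

end

end Groth.Agent.Vancyc.H327
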