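import Groth.Agent.Vancyc.H327.Supp3

/-!
# Étale cohomology with supports IV (S4009): restriction to an open subscheme

`O` open in `X`, `j : U ⟶ X` an open immersion:
`H^q_{X - O - U}(X) ⟶ H^q_{X - O}(X) ⟶ H^q_{U - O}(U) ⟶ H^{q+1}_{X - O - U}(X)`.

* `HS.surjective_pull_of_open`, `HS.injective_pull_of_open`, `HS.exists_enl`.
-/

set_option autoImplicit false
set_option backward.isDefEq.respectTransparency false
set_option backward.isDefEq.respectTransparency.types false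
universe u
open CategoryTheory CategoryTheory.Limits AlgebraicGeometry Opposite Abelian
open scoped Groth.Agent.Etcore.EtInst
open Groth.Agent.Etcore.EtInst

namespace Groth.Agent.Vancyc.H327

open Groth.Agent.Etcore.MVShriek Groth.Agent.Etcore.MVbc Groth.Agent.Etcore.PullCoh
open Groth.Agent.Sga4B.ExtCmp Groth.Agent.EtpbcB.HRel

noncomputable section

variable {U V W X Y : Scheme.{u}} (M : Type) [AddCommGroup M]

/-- `ZQ O' ⟶ ZQ O` for `O' ≤ O`. -/
def tauQ {O' O : X.Opens} (h : O' ≤ O) : ZQ O' ⟶ ZQ O :=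
  cokernel.desc _ (ZQπ O) (by
    have h1 : Set.range O'.ι ⊆ Set.range O.ι := by
      rw [Scheme.Opens.range_ι, Scheme.Opens.range_ι]
      exact h
    rw [← ca_c O.ι O'.ι h1 (EtCoh.const X ℤ), Category.assoc, c_ZQπ, comp_zero])

@[reassoc]
theorem ZQπ_tauQ {O' O : X.Opens} (h : O' ≤ O) : ZQπ O' ≫ tauQ h = ZQπ O :=
  cokernel.π_desc _ _ _

instance {O' O : X.Opens} (h : O' ≤ O) : Epi (tauQ h) := by
  have h1 : Epi (ZQπ O' ≫ tauQ h) := by
    rw [ZQπ_tauQ]
    infer_instance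
  exact epi_of_epi (ZQπ O') (tauQ h)

section Stalk

variable {Ω : Type u} [Field Ω] [IsSepClosed Ω]

/-- `ZQπ` is an isomorphism on the stalks outside `O`. -/
theorem isIso_stalk_ZQπ (O : X.Opens) (ξ : Spec (CommRingCat.of Ω) ⟶ X) (h : ξ default ∉ O) :
    IsIso ((EtCoh.stalk ξ).map (ZQπ O)) := by
  have h1 : IsZero ((EtCoh.stalk ξ).obj (P O.ι (EtCoh.const X ℤ))) :=
    isZero_stalk_P O.ι (EtCoh.const X ℤ) ξ (by rw [Scheme.Opens.range_ι]; exact h)
  have h2 : (EtCoh.stalk ξ).map (c O.ι (EtCoh.const X ℤ)) = 0 := h1.eq_of_src _ _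
  have h3 := (ses_shortExact O).map_of_exact (EtCoh.stalk ξ)
  have h4 : Mono ((EtCoh.stalk ξ).map (ZQπ O)) :=
    (ShortComplex.exact_iff_mono ((ses O).map (EtCoh.stalk ξ)) h2).1 h3.exact
  have h5 : Epi ((EtCoh.stalk ξ).map (ZQπ O)) := inferInstance
  exact isIso_of_mono_of_epi _

theorem isIso_stalk_tauQ {O' O : X.Opens} (h : O' ≤ O) (ξ : Spec (CommRingCat.of Ω) ⟶ X)
    (hξ : ξ default ∉ O) : IsIso ((EtCoh.stalk ξ).map (tauQ h)) := by
  have h1 := isIso_stalk_ZQπ O' ξ (fun h' => hξ (h h'))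
  have h2 := isIso_stalk_ZQπ O ξ hξ
  rw [← ZQπ_tauQ h, Functor.map_comp] at h2
  exact IsIso.of_isIso_comp_left ((EtCoh.stalk ξ).map (ZQπ O')) _

end Stalk

section Open

variable (j : U ⟶ X) [IsOpenImmersion j] (O O₂ : X.Opens) (h : O ≤ O₂)
  (hj : ∀ x : X, x ∈ O₂ ↔ x ∈ O ∨ x ∈ Set.range j)

include hj in
theorem c_tauQ : c j (ZQ O) ≫ tauQ h = 0 := by
  have h1 : IsZero (P j (ZQ O₂)) := by
    have h2 : IsIso (0 : P j (ZQ O₂) ⟶ P j (ZQ O₂)) := by
      rw [Groth.Agent.Etcore.Stalks.isIso_iff_stalks]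
      intro Ω _ _ ξ
      have h3 : IsZero ((EtCoh.stalk ξ).obj (P j (ZQ O₂))) := by
        by_cases hx : ξ default ∈ Set.range j
        · have h4 := isIso_stalk_c j (ZQ O₂) ξ hx
          have h5 : IsZero ((EtCoh.stalk ξ).obj (ZQ O₂)) :=
            isZero_stalk_ZQ O₂ ξ ((hj _).2 (Or.inr hx))
          exact h5.of_iso (asIso ((EtCoh.stalk ξ).map (c j (ZQ O₂))))
        · exact isZero_stalk_P j _ ξ hx
      exact h3.isIso h3 _
    rw [IsZero.iff_id_eq_zero, ← IsIso.hom_inv_id (0 : P j (ZQ O₂) ⟶ P j (ZQ O₂)), zero_comp]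
  have h6 : c j (ZQ O) ≫ tauQ h = (EtShriek.extZero j).map ((EtCoh.pull j).map (tauQ h)) ≫
      c j (ZQ O₂) := ((adj j).counit.naturality (tauQ h)).symm
  rw [h6, h1.eq_of_src (c j (ZQ O₂)) 0, comp_zero]

/-- `0 ⟶ j_! j⁻¹ ZQ O ⟶ ZQ O ⟶ ZQ (O ∪ U) ⟶ 0`. -/
def sesU : ShortComplex (EtCoh.Ab X) := ShortComplex.mk (c j (ZQ O)) (tauQ h) (c_tauQ j O O₂ h hj)

theorem isIso_desc : IsIso (cokernel.desc (c j (ZQ O)) (tauQ h) (c_tauQ j O O₂ h hj)) := by
  rw [Groth.Agent.Etcore.Stalks.isIso_iff_stalks]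
  intro Ω _ _ ξ
  have hπ : Epi ((EtCoh.stalk ξ).map (cokernel.π (c j (ZQ O)))) := inferInstance
  by_cases hx : ξ default ∈ O₂
  · have h1 : IsZero ((EtCoh.stalk ξ).obj (ZQ O₂)) := isZero_stalk_ZQ O₂ ξ hx
    have h2 : IsZero ((EtCoh.stalk ξ).obj (cokernel (c j (ZQ O)))) := by
      rw [IsZero.iff_id_eq_zero, ← cancel_epi ((EtCoh.stalk ξ).map (cokernel.π (c j (ZQ O)))),
        comp_zero]
      rcases (hj _).1 hx with h3 | h3
      · exact (isZero_stalk_ZQ O ξ h3).eq_of_src _ _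
      · have h4 := isIso_stalk_c j (ZQ O) ξ h3
        rw [← cancel_epi ((EtCoh.stalk ξ).map (c j (ZQ O))), comp_zero, Category.comp_id,
          ← Functor.map_comp, cokernel.condition, Functor.map_zero]
    exact h2.isIso h1 _
  · have h1 := isIso_stalk_tauQ h ξ hx
    have h2 : IsZero ((EtCoh.stalk ξ).obj (P j (ZQ O))) :=
      isZero_stalk_P j _ ξ (fun h' => hx ((hj _).2 (Or.inr h')))
    have h3 : (EtCoh.stalk ξ).map (c j (ZQ O)) = 0 := h2.eq_of_src _ _
    have h4 : IsIso ((EtCoh.stalk ξ).map (cokernel.π (c j (ZQ O)))) := by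
      have h5 : (ShortComplex.mk (c j (ZQ O)) (cokernel.π (c j (ZQ O)))
          (cokernel.condition _)).Exact := ShortComplex.exact_cokernel _
      have h6 := h5.map (EtCoh.stalk ξ)
      have h7 : Mono ((EtCoh.stalk ξ).map (cokernel.π (c j (ZQ O)))) :=
        (ShortComplex.exact_iff_mono _ h3).1 h6
      exact isIso_of_mono_of_epi _
    rw [← cokernel.π_desc (c j (ZQ O)) (tauQ h) (c_tauQ j O O₂ h hj), Functor.map_comp] at h1
    exact IsIso.of_isIso_comp_left ((EtCoh.stalk ξ).map (cokernel.π (c j (ZQ O)))) _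

theorem sesU_shortExact : (sesU j O O₂ h hj).ShortExact := by
  have _ : Mono (sesU j O O₂ h hj).f := mono_c j (ZQ O)
  have _ : Epi (sesU j O O₂ h hj).g := inferInstanceAs (Epi (tauQ h))
  have h1 := isIso_desc j O O₂ h hj
  have h2 : (sesU j O O₂ h hj).Exact := by
    refine ShortComplex.exact_of_iso ?_ (ShortComplex.exact_cokernel (c j (ZQ O)))
    exact ShortComplex.isoMk (Iso.refl _) (Iso.refl _)
      (asIso (cokernel.desc (c j (ZQ O)) (tauQ h) (c_tauQ j O O₂ h hj)))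
      (by simp [sesU]) (by simp [sesU])
  exact { exact := h2 }

end Open

section Main

variable (j : U ⟶ X) [IsOpenImmersion j] {O O₂ : X.Opens}
  (hj : ∀ x : X, x ∈ O₂ ↔ x ∈ O ∨ x ∈ Set.range j) {O' : U.Opens} (hO : O' = j ⁻¹ᵁ O)

include hj in
theorem HS.surjective_pull_of_open (q : ℕ) (h0 : Subsingleton (HS M O₂ (q + 1))) :
    Function.Surjective (HS.pull M j hO.le q) := by
  intro y
  obtain ⟨e, rfl⟩ := (extPQ_bijective M j hO q).2 y
  have h : O ≤ O₂ := fun x hx => (hj x).2 (Or.inl hx)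
  obtain ⟨x, hx⟩ := Ext.contravariant_sequence_exact₁ (sesU_shortExact j O O₂ h hj)
    (EtCoh.const X M) e (add_comm 1 q) (Subsingleton.elim (α := HS M O₂ (q + 1)) _ _)
  refine ⟨x, ?_⟩
  rw [← extPQ_c M j hO, ← hx]
  rfl

include hj in
theorem HS.injective_pull_of_open (q : ℕ) (h0 : Subsingleton (HS M O₂ q)) :
    Function.Injective (HS.pull M j hO.le q) := by
  rw [injective_iff_map_eq_zero]
  intro x hx
  rw [← extPQ_c M j hO] at hx
  have h1 : (Ext.mk₀ (c j (ZQ O))).comp x (zero_add q) = 0 :=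
    (injective_iff_map_eq_zero _).1 (extPQ_bijective M j hO q).1 _ hx
  have h : O ≤ O₂ := fun x hx => (hj x).2 (Or.inl hx)
  obtain ⟨y, hy⟩ := Ext.contravariant_sequence_exact₂ (sesU_shortExact j O O₂ h hj)
    (EtCoh.const X M) x h1
  have h2 : y = 0 := Subsingleton.elim (α := HS M O₂ q) y 0
  rw [← hy, h2]
  simp

end Main

end

end Groth.Agent.Vancyc.H327
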